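import Mathlib
import Cfsg.Agent.Lib.Fgs.SymSolv
import Cfsg.Agent.Lib.Core.MinNormal

/-!
Distinguishing colourings of coset spaces of solvable groups, the wreath lemma, and ways of
producing many regular orbits from one.
-/

set_option autoImplicit false

namespace CfsgLib.Base

open Subgroup
open scoped commutatorElement

universe u

/-- A colouring of `G ⧸ H` preserved only by the kernel of the action. -/
def Dist (C : Type*) {G : Type*} [Group G] (H : Subgroup G) : Prop :=
  ∃ f : G ⧸ H → C, ∀ s : G, (∀ g : G, f (s * g : G) = f g) → ∀ g : G, g⁻¹ * s * g ∈ H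

/-- Pairwise inequivalent points, indexed by `C`, with stabilizers in `N`. -/
def Many (C : Type*) {L : Type*} [Group L] (T : Type*) [MulAction L T] (N : Subgroup L) : Prop :=
  ∃ τ : C → T, (∀ (c c' : C) (l : L), l • τ c = τ c' → c = c') ∧
    ∀ (c : C) (l : L), l • τ c = τ c → l ∈ N

theorem wreath {C G T : Type*} [Group G] {L : Subgroup G} [MulAction L T] {N : Subgroup L}
    [hN : N.Normal] (hD : Dist C L) (hM : Many C T N) :
    ∃ φ : G → T, (∀ (g : G) (l : L), φ (g * l) = l⁻¹ • φ g) ∧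
      ∀ s : G, (∀ g, φ (s * g) = φ g) → ∀ g : G, ∃ l ∈ N, (l : G) = g⁻¹ * s * g := by
  obtain ⟨f, hf⟩ := hD
  obtain ⟨τ, h1, h2⟩ := hM
  have hm : ∀ g : G, g⁻¹ * (g : G ⧸ L).out ∈ L := fun g =>
    QuotientGroup.eq.1 (QuotientGroup.out_eq' _).symm
  let φ : G → T := fun g => (⟨_, hm g⟩ : L) • τ (f g)
  have hφ : ∀ (g : G) (l : L), φ (g * l) = l⁻¹ • φ g := fun g l => by
    have : ((g * l : G) : G ⧸ L) = g := QuotientGroup.mk_mul_of_mem g l.2
    simp only [φ, smul_smul, this]
    congr 1
    ext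
    simp [mul_assoc]
  refine ⟨φ, hφ, fun s hs g => ?_⟩
  have h3 := hf s (fun g => h1 _ _ ((⟨_, hm g⟩ : L)⁻¹ * ⟨_, hm (s * g)⟩) (by
    rw [mul_smul, inv_smul_eq_iff]
    exact hs g)) g
  refine ⟨⟨_, h3⟩, ?_, rfl⟩
  have h4 := hφ g ⟨_, h3⟩
  rw [show g * ((⟨_, h3⟩ : L) : G) = s * g by simp [mul_assoc], hs, eq_inv_smul_iff] at h4
  have h5 := h2 (f g) ((⟨_, hm g⟩ : L)⁻¹ * ⟨_, h3⟩ * ⟨_, hm g⟩) (by
    rw [mul_smul, mul_smul, inv_smul_eq_iff]
    exact h4)
  have h6 := hN.conj_mem _ h5 ⟨_, hm g⟩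
  rwa [← mul_assoc, ← mul_assoc, mul_inv_cancel, one_mul, mul_inv_cancel_right] at h6

theorem mem_of_pow_mem {G : Type*} [Group G] {S : Subgroup G} {x : G} {a b : ℕ} (h : a.Coprime b)
    (ha : x ^ a ∈ S) (hb : x ^ b ∈ S) : x ∈ S := by
  have h1 : x = (x ^ a) ^ Nat.gcdA a b * (x ^ b) ^ Nat.gcdB a b := by
    rw [← zpow_natCast, ← zpow_natCast, ← zpow_mul, ← zpow_mul, ← zpow_add, ← Nat.gcd_eq_gcd_ab,
      h, Nat.cast_one, zpow_one]
  rw [h1]
  exact S.mul_mem (S.zpow_mem ha _) (S.zpow_mem hb _)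

theorem many_of_prime {L T : Type*} [Group L] [Finite L] [MulAction L T] {N : Subgroup L}
    (γ : Equiv.Perm T) (hγ : ∀ (l : L) (x : T), γ (l • x) = l • γ x) {r c : ℕ} (hr : r.Prime)
    (hc : c ≤ r) (h1 : γ ^ r = 1) (hL : ¬ r ∣ Nat.card L) {t : T} (ht : γ t ≠ t)
    (hN : ∀ l : L, l • t = t → l ∈ N) : Many (Fin c) T N := by
  have hp : ∀ (n : ℕ) (l : L) (x : T), (γ ^ n) (l • x) = l • (γ ^ n) x := fun n l x => by
    induction n with
    | zero => rfl
    | succ n ih => rw [pow_succ', Equiv.Perm.mul_apply, Equiv.Perm.mul_apply, ih, hγ]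
  have key : ∀ (d : ℕ) (l : L), d < r → l • t = (γ ^ d) t → d = 0 := fun d l hd h => by
    by_contra h0
    have h2 : ∀ n : ℕ, l ^ n • t = ((γ ^ d) ^ n) t := fun n => by
      induction n with
      | zero => simp
      | succ n ih => rw [pow_succ, mul_smul, h, ← hp, ih, pow_succ', Equiv.Perm.mul_apply]
    have h3 : l ∈ MulAction.stabilizer L t := mem_of_pow_mem (hr.coprime_iff_not_dvd.2 hL)
      (by rw [MulAction.mem_stabilizer_iff, h2, ← pow_mul, mul_comm, pow_mul, h1, one_pow]; rfl)
      (by rw [pow_card_eq_one']; exact one_mem _)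
    exact ht (mem_of_pow_mem (S := MulAction.stabilizer (Equiv.Perm T) t)
      (hr.coprime_iff_not_dvd.2 fun h => h0 (Nat.eq_zero_of_dvd_of_lt h hd))
      (by rw [h1]; exact one_mem _) (h.symm.trans h3))
  have key2 : ∀ (i j : Fin c) (l : L), i ≤ j → l • (γ ^ (i : ℕ)) t = (γ ^ (j : ℕ)) t → i = j :=
    fun i j l hij h => by
      obtain ⟨d, hd⟩ := Nat.exists_eq_add_of_le (show (i : ℕ) ≤ j from hij)
      rw [← hp, hd, pow_add, Equiv.Perm.mul_apply] at h
      have := key d l (by omega) ((γ ^ (i : ℕ)).injective h)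
      exact Fin.ext (by omega)
  refine ⟨fun i => (γ ^ (i : ℕ)) t, fun i j l h => ?_, fun i l h => hN l ?_⟩
  · rcases le_total i j with hij | hij
    · exact key2 i j l hij h
    · exact (key2 j i l⁻¹ hij (inv_smul_eq_iff.2 h.symm)).symm
  · exact (γ ^ (i : ℕ)).injective ((hp _ _ _).trans h)

theorem many_of_perfect {L T Γ : Type*} [Group L] [Group.IsSolvable L] [MulAction L T]
    {N : Subgroup L} [Group Γ] [Finite Γ] (ψ : Γ →* Equiv.Perm T)
    (hψ : ∀ (γ : Γ) (l : L) (x : T), ψ γ (l • x) = l • ψ γ x) (hΓ : commutator Γ = ⊤) {t : T}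
    (ht : ∃ γ, ψ γ t ≠ t) (hN : ∀ l : L, l • t = t → l ∈ N) : Many (Fin 5) T N := by
  let S : Subgroup L → Subgroup Γ := fun D =>
    { carrier := {γ | ∃ l ∈ D, ψ γ t = l • t}
      one_mem' := ⟨1, D.one_mem, by simp⟩
      mul_mem' := by
        rintro a b ⟨l, hl, ha⟩ ⟨m, hm, hb⟩
        exact ⟨m * l, D.mul_mem hm hl, by rw [map_mul, Equiv.Perm.mul_apply, hb, hψ, ha, mul_smul]⟩
      inv_mem' := by
        rintro a ⟨l, hl, ha⟩
        refine ⟨l⁻¹, D.inv_mem hl, ?_⟩
        rw [map_inv, Equiv.Perm.inv_eq_iff_eq, hψ, ha, inv_smul_smul] }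
  by_cases h5 : 5 ≤ Nat.card (Γ ⧸ S ⊤)
  · have := Fintype.ofFinite (Γ ⧸ S ⊤)
    obtain ⟨e⟩ : Nonempty (Fin 5 ↪ Γ ⧸ S ⊤) :=
      Function.Embedding.nonempty_of_card_le (by simpa using h5)
    refine ⟨fun i => ψ (e i).out t, fun i j l h => e.injective ?_, fun i l h => hN l ?_⟩
    · rw [← QuotientGroup.out_eq' (e i), ← QuotientGroup.out_eq' (e j), QuotientGroup.eq]
      refine ⟨l, mem_top _, ?_⟩
      rw [map_mul, map_inv, Equiv.Perm.mul_apply, Equiv.Perm.inv_eq_iff_eq, hψ, h]
    · exact (ψ (e i).out).injective ((hψ _ _ _).trans h)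
  exfalso
  have h1 : S ⊤ = ⊤ := by
    have := Fgs.isSolvable_perm_of_card_le_four (Γ ⧸ S ⊤) (by omega)
    obtain ⟨n, hn⟩ := this.solvable
    have h2 : ∀ n, derivedSeries Γ n = ⊤ := fun n => by
      induction n with
      | zero => rfl
      | succ n ih => rw [derivedSeries_succ, ih, ← commutator_def, hΓ]
    have h3 := map_derivedSeries_le_derivedSeries (MulAction.toPermHom Γ (Γ ⧸ S ⊤)) n
    rw [hn, h2, le_bot_iff, Subgroup.map_eq_bot_iff, ← normalCore_eq_ker] at h3
    exact top_le_iff.1 (h3.trans (normalCore_le _))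
  have h2 : ∀ n, S (derivedSeries L n) = ⊤ := fun n => by
    induction n with
    | zero => exact h1
    | succ n ih =>
      rw [eq_top_iff, ← hΓ, commutator_def, commutator_le]
      intro a _ b _
      obtain ⟨l, hl, ha⟩ := ih.ge (mem_top a)
      obtain ⟨m, hm, hb⟩ := ih.ge (mem_top b)
      have ha' : ψ a⁻¹ t = l⁻¹ • t := by
        rw [map_inv, Equiv.Perm.inv_eq_iff_eq, hψ, ha, inv_smul_smul]
      have hb' : ψ b⁻¹ t = m⁻¹ • t := by
        rw [map_inv, Equiv.Perm.inv_eq_iff_eq, hψ, hb, inv_smul_smul]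
      refine ⟨⁅m⁻¹, l⁻¹⁆, commutator_mem_commutator (inv_mem hm) (inv_mem hl), ?_⟩
      simp only [commutatorElement_def, map_mul, Equiv.Perm.mul_apply, hb', hψ, ha', hb, ha,
        mul_smul, inv_inv]
  obtain ⟨n, hn⟩ := (inferInstance : Group.IsSolvable L).solvable
  obtain ⟨γ, hγ⟩ := ht
  obtain ⟨l, hl, h⟩ := (h2 n).ge (mem_top γ)
  rw [hn, mem_bot] at hl
  exact hγ (by rw [h, hl, one_smul])

/-- Colourings of an `L`-set. -/
def Col (X C : Type*) : Type _ := X → C

instance {L X C : Type*} [Group L] [MulAction L X] : MulAction L (Col X C) := arrowAction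

theorem col_smul {L X C : Type*} [Group L] [MulAction L X] (l : L) (f : Col X C) (x : X) :
    (l • f) x = f (l⁻¹ • x) := rfl

/-- Permutations of the colours act on colourings. -/
def colPerm (X C : Type*) : Equiv.Perm C →* Equiv.Perm (Col X C) :=
  MulAction.toPermHom (Equiv.Perm C) (X → C)

theorem colPerm_apply {X C : Type*} (π : Equiv.Perm C) (f : Col X C) (x : X) :
    colPerm X C π f x = π (f x) := rfl

theorem Dist.stab {C L : Type*} [Group L] {H : Subgroup L} (h : Dist C H) :
    ∃ f : Col (L ⧸ H) C, ∀ l : L, l • f = f → l ∈ H.normalCore := by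
  obtain ⟨f, hf⟩ := h
  refine ⟨f, fun l hl => (Subgroup.inv_mem_iff _).1 fun g => ?_⟩
  simpa using hf l⁻¹ (fun g => congrFun hl g) g⁻¹

theorem Dist.many_prime {L : Type*} [Group L] [Finite L] {H : Subgroup L} {r : ℕ} (hr : r.Prime)
    (h : Dist (Fin r) H) (hL : ¬ r ∣ Nat.card L) :
    Many (Fin r) (Col (L ⧸ H) (Fin r)) H.normalCore := by
  obtain ⟨f, hf⟩ := h.stab
  obtain ⟨n, rfl⟩ : ∃ n, r = n + 2 := Nat.exists_eq_add_of_le' hr.two_le
  refine many_of_prime (colPerm _ _ (finRotate (n + 2))) (fun _ _ => rfl) hr le_rfl ?_ hL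
    (fun h => ?_) hf
  · rw [← map_pow, ← map_one (colPerm _ _)]
    congr 1
    have := (isCycle_finRotate (n := n)).orderOf
    rw [support_finRotate, Finset.card_univ, Fintype.card_fin] at this
    exact orderOf_dvd_iff_pow_eq_one.1 this.dvd
  · have := congrFun h ((1 : L) : L ⧸ H)
    rw [colPerm_apply] at this
    exact Equiv.Perm.mem_support.1 (support_finRotate (n := n) ▸ Finset.mem_univ _) this

theorem Dist.many_five {L : Type*} [Group L] [Group.IsSolvable L] {H : Subgroup L}
    (h : Dist (Fin 5) H) : Many (Fin 5) (Col (L ⧸ H) (Fin 5)) H.normalCore := by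
  obtain ⟨f, hf⟩ := h.stab
  refine many_of_perfect ((colPerm _ _).comp (alternatingGroup (Fin 5)).subtype)
    (fun _ _ _ => rfl) (commutator_alternatingGroup_eq_top (by simp)) ?_ hf
  refine ⟨⟨finRotate 5, by rw [Equiv.Perm.mem_alternatingGroup]; decide⟩, fun h => ?_⟩
  have := congrFun h ((1 : L) : L ⧸ H)
  exact Equiv.Perm.mem_support.1 (support_finRotate (n := 3) ▸ Finset.mem_univ _) this

theorem Dist.trans {C G : Type*} [Group G] {H L : Subgroup G} (hD : Dist C L)
    (hM : Many C (Col (L ⧸ H.subgroupOf L) C) (H.subgroupOf L).normalCore) (hHL : H ≤ L) :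
    Dist C H := by
  obtain ⟨φ, h1, h2⟩ := wreath hD hM
  refine ⟨fun q => Quotient.liftOn' q (fun g => φ g ((1 : L) : L ⧸ H.subgroupOf L)) fun a b h => ?_,
    fun s hs g => ?_⟩
  · rw [QuotientGroup.leftRel_apply] at h
    have := h1 a ⟨_, hHL h⟩
    rw [show a * ((⟨_, hHL h⟩ : L) : G) = b by simp] at this
    rw [this, col_smul, inv_inv]
    congr 1
    exact QuotientGroup.eq.2 (by simpa [mem_subgroupOf] using h)
  · obtain ⟨l, hl, h⟩ := h2 s (fun g => funext fun q => by
      obtain ⟨l, rfl⟩ := QuotientGroup.mk_surjective q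
      have e : ∀ g : G, φ g l = φ (g * l) ((1 : L) : L ⧸ H.subgroupOf L) := fun g => by
        rw [h1, col_smul, inv_inv]
        congr 1
        exact QuotientGroup.eq.2 (by simp)
      rw [e, e, mul_assoc]
      exact hs (g * l)) g
    exact h ▸ (mem_subgroupOf.1 (normalCore_le _ hl) : (l : G) ∈ H)

theorem isCoatom_subgroupOf {G : Type*} [Group G] {H L : Subgroup G} (h : H ⋖ L) :
    IsCoatom (H.subgroupOf L) := by
  refine ⟨fun h1 => h.lt.not_ge (subgroupOf_eq_top.1 h1), fun M hM => ?_⟩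
  have h1 : H ≤ M.map L.subtype := by
    rw [← map_subgroupOf_eq_of_le h.le]
    exact map_mono hM.le
  rcases h.eq_or_eq h1 (map_subtype_le M) with h2 | h2
  · exact absurd (by rw [← h2, ← comap_subtype, comap_map_eq_self_of_injective L.subtype_injective])
      hM.ne
  · exact map_injective L.subtype_injective (by rw [h2, ← MonoidHom.range_eq_map, range_subtype])

theorem dist_all {C G : Type*} [Nonempty C] [Group G] [Finite G]
    (h : ∀ (L : Subgroup G) (H : Subgroup L), IsCoatom H → Many C (Col (L ⧸ H) C) H.normalCore)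
    (H : Subgroup G) : Dist C H := by
  induction H using WellFoundedGT.induction with
  | ind H ih =>
    by_cases h1 : H = ⊤
    · exact ⟨fun _ => Classical.arbitrary C, fun _ _ _ => h1 ▸ mem_top _⟩
    obtain ⟨L, hL⟩ := exists_covBy_of_wellFoundedLT (a := H) (by simpa using h1)
    exact (ih L hL.lt).trans (h L _ (isCoatom_subgroupOf hL)) hL.le

section Modules

variable (ι : Type*) (G V : Type*) [Group G] [AddCommGroup V] [DistribMulAction G V]

/-- A family of vectors fixed only by elements acting trivially. -/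
def HasBase : Prop := ∃ v : ι → V, ∀ g : G, (∀ i, g • v i = v i) → ∀ u : V, g • u = u

variable {V} in
/-- An invariant subgroup. -/
def MInv (U : AddSubgroup V) : Prop := ∀ g : G, ∀ u ∈ U, g • u ∈ U

/-- Complete reducibility. -/
def CR : Prop := ∀ U : AddSubgroup V, MInv G U → ∃ W, MInv G W ∧ U ⊓ W = ⊥ ∧ U ⊔ W = ⊤

/-- Irreducibility (or zero). -/
def Irr : Prop := ∀ U : AddSubgroup V, MInv G U → U = ⊥ ∨ U = ⊤

/-- A colouring preserved by no affine map other than the identity. -/
def Aff : Prop :=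
  ∃ col : V → ι, ∀ (m : V) (g : G), (∀ x, col (m + g • x) = col x) → m = 0 ∧ ∀ x : V, g • x = x

variable {ι G V}

theorem Irr.cr (h : Irr G V) : CR G V := fun U hU => by
  rcases h U hU with rfl | rfl
  · exact ⟨⊤, fun _ _ _ => trivial, by simp, by simp⟩
  · exact ⟨⊥, fun _ _ h => by simp [AddSubgroup.mem_bot.1 h], by simp, by simp⟩

theorem smul_eq_of_pow [Finite G] {g : G} {n : ℕ} (hn : n.Coprime (Nat.card G)) {x : V}
    (h : g ^ n • x = x) : g • x = x :=
  mem_of_pow_mem (S := MulAction.stabilizer G x) hn h (by rw [pow_card_eq_one']; exact one_mem _)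

theorem HasBase.aff_five (h : HasBase (Fin 3) G V) : Aff (Fin 5) G V := by
  classical
  obtain ⟨v, hv⟩ := h
  refine ⟨fun x => if x = 0 then 0 else if x = v 0 then 1 else if x = v 1 then 2 else
    if x = v 2 then 3 else 4, fun m g h => ?_⟩
  obtain rfl : m = 0 := by
    have := h 0
    simp only [smul_zero, add_zero, if_true] at this
    split_ifs at this <;> first | assumption | exact absurd this (by decide)
  simp only [zero_add] at h
  have h0 : g • v 0 = v 0 := by
    by_cases e : v 0 = 0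
    · rw [e, smul_zero]
    have := h (v 0)
    simp only [if_true, smul_eq_zero_iff_eq, e, if_false] at this
    split_ifs at this <;> first | assumption | exact absurd this (by decide)
  have h1 : g • v 1 = v 1 := by
    by_cases e : v 1 = 0
    · rw [e, smul_zero]
    by_cases e' : v 1 = v 0
    · rw [e', h0]
    have := h (v 1)
    simp only [if_true, smul_eq_zero_iff_eq, e, e', if_false] at this
    split_ifs at this <;> first | assumption | exact absurd this (by decide)
  have h2 : g • v 2 = v 2 := by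
    by_cases e : v 2 = 0
    · rw [e, smul_zero]
    by_cases e' : v 2 = v 0
    · rw [e', h0]
    by_cases e'' : v 2 = v 1
    · rw [e'', h1]
    have := h (v 2)
    simp only [if_true, smul_eq_zero_iff_eq, e, e', e'', if_false] at this
    split_ifs at this <;> first | assumption | exact absurd this (by decide)
  exact ⟨rfl, hv g fun i => by fin_cases i <;> assumption⟩

theorem HasBase.aff_three [Finite G] (h : HasBase (Fin 2) G V) (h3 : ¬ 3 ∣ Nat.card G) :
    Aff (Fin 3) G V := by
  classical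
  obtain ⟨v, hv⟩ := h
  have hv' : ∀ g : G, g • v 0 = v 0 → g • v 1 = v 1 → ∀ u : V, g • u = u := fun g h0 h1 =>
    hv g fun i => by fin_cases i <;> assumption
  obtain ⟨a, b, hab, hs⟩ : ∃ a b : V, (∀ g : G, g • a = a → g • b = b → ∀ u : V, g • u = u) ∧
      ∀ g : G, g • a = b → g • b = a → a = b := by
    by_cases h1 : ∀ g : G, g • v 0 = v 1 → g • v 1 = v 0 → v 0 = v 1
    · exact ⟨v 0, v 1, hv', h1⟩
    push Not at h1
    obtain ⟨g, g0, g1, hne⟩ := h1
    refine ⟨v 1, -v 0 - v 1, fun k k1 k2 => hv' k ?_ k1, fun k k1 k2 => absurd ?_ hne⟩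
    · rwa [smul_sub, k1, smul_neg, sub_left_inj, neg_inj] at k2
    · have k0 : k • v 0 = v 0 := by
        rw [smul_sub, k1, smul_neg] at k2
        have : -(k • v 0) = -v 0 := by rw [← add_left_inj (v 1), eq_add_of_sub_eq k2]; abel
        exact neg_injective this
      have e0 : (g * k) • v 0 = v 1 := by rw [mul_smul, k0, g0]
      have e1 : (g * k) • v 1 = -v 0 - v 1 := by
        rw [mul_smul, k1, smul_sub, smul_neg, g0, g1]; abel
      have e2 : (g * k) • (-v 0 - v 1) = v 0 := by rw [mul_smul, k2, g1]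
      rw [← e0]
      refine (smul_eq_of_pow (Nat.prime_three.coprime_iff_not_dvd.2 h3) ?_).symm
      rw [pow_three, mul_smul (g * k), mul_smul (g * k), e0, e1, e2]
  refine ⟨fun x => if x = 0 then 0 else if x = a ∨ x = b then 1 else 2, fun m g h => ?_⟩
  obtain rfl : m = 0 := by
    have := h 0
    simp only [smul_zero, add_zero, if_true] at this
    split_ifs at this <;> first | assumption | exact absurd this (by decide)
  simp only [zero_add] at h
  have key : ∀ x, x = a ∨ x = b → g • x = x ∨ g • x = a ∨ g • x = b := fun x hx => by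
    have := h x
    simp only [hx, if_true, smul_eq_zero_iff_eq] at this
    split_ifs at this with h1 h2
    · exact Or.inl (by rw [h1, smul_zero])
    · exact Or.inr h2
    · exact absurd this (by decide)
  refine ⟨rfl, ?_⟩
  have inj : g • a = g • b → a = b := fun h => MulAction.injective g h
  have ka : g • a = a ∨ g • a = b := by have := key a (Or.inl rfl); tauto
  have kb : g • b = a ∨ g • b = b := by have := key b (Or.inr rfl); tauto
  rcases ka with h1 | h1 <;> rcases kb with h2 | h2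
  · obtain rfl : a = b := inj (h1.trans h2.symm)
    exact hab g h1 h1
  · exact hab g h1 h2
  · obtain rfl : a = b := hs g h1 h2
    exact hab g h1 h1
  · obtain rfl : a = b := inj (h1.trans h2.symm)
    exact hab g h1 h1

theorem HasBase.aff_two [Finite G] [Finite V] (h : HasBase (Fin 2) G V) (hG : Odd (Nat.card G))
    (hV : Odd (Nat.card V)) : Aff (Fin 2) G V := by
  classical
  have two : ∀ (n : ℕ) (x : V), (2 ^ n) • x = 0 → x = 0 := fun n x hx => by
    have h1 := addOrderOf_dvd_of_nsmul_eq_zero hx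
    have h2 := addOrderOf_dvd_natCard x
    exact AddMonoid.addOrderOf_eq_one_iff.1 (Nat.eq_one_of_dvd_coprimes
      ((Nat.coprime_two_left.2 hV).pow_left n) h1 h2)
  obtain ⟨a, b, hab, h0⟩ : ∃ a b : V, (∀ g : G, g • a = a → g • b = b → ∀ u : V, g • u = u) ∧
      ((a = 0 ∧ b = 0) ∨ (a ≠ 0 ∧ b ≠ 0)) := by
    obtain ⟨v, hv⟩ := h
    have hv' : ∀ g : G, g • v 0 = v 0 → g • v 1 = v 1 → ∀ u : V, g • u = u := fun g h0 h1 =>
      hv g fun i => by fin_cases i <;> assumption
    by_cases h0 : v 0 = 0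
    · exact ⟨v 1, v 1, fun g h _ => hv' g (by rw [h0, smul_zero]) h, by tauto⟩
    by_cases h1 : v 1 = 0
    · exact ⟨v 0, v 0, fun g h _ => hv' g h (by rw [h1, smul_zero]), by tauto⟩
    exact ⟨v 0, v 1, hv', by tauto⟩
  let Δ : Finset V := {a, -a, b, -b}
  refine ⟨fun x => if x ∈ Δ then 0 else 1, fun m g h => ?_⟩
  have hΔ : ∀ x ∈ Δ, m + g • x ∈ Δ := fun x hx => by
    have := h x
    simp only [hx, if_true] at this
    split_ifs at this
    · assumption
    · exact absurd this (by decide)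
  obtain rfl : m = 0 := by
    have h1 : ∑ x ∈ Δ, (m + g • x) = ∑ x ∈ Δ, x := by
      have hi : Set.InjOn (fun x => m + g • x) Δ := fun x _ y _ h =>
        MulAction.injective g (add_left_cancel h)
      refine Finset.sum_nbij _ hΔ hi (Finset.surjOn_of_injOn_of_card_le _ hΔ hi le_rfl)
        fun _ _ => rfl
    have h2 : ∑ x ∈ Δ, x = 0 := by
      have : ∑ x ∈ Δ, -x = ∑ x ∈ Δ, x :=
        Finset.sum_nbij' (fun x => -x) (fun x => -x) (by simp [Δ]) (by simp [Δ]) (by simp)
          (by simp) fun _ _ => rfl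
      rw [Finset.sum_neg_distrib] at this
      exact two 1 _ (by rw [pow_one, two_nsmul]; exact (neg_eq_iff_add_eq_zero.1 this))
    rw [Finset.sum_add_distrib, ← Finset.smul_sum, h2, smul_zero, add_zero, Finset.sum_const] at h1
    rcases h0 with ⟨rfl, rfl⟩ | ⟨ha, hb⟩
    · simpa [Δ] using h1
    have na : a ≠ -a := fun h => ha (two 1 a (by
      rw [pow_one, two_nsmul]; exact eq_neg_iff_add_eq_zero.1 h))
    have nb : b ≠ -b := fun h => hb (two 1 b (by
      rw [pow_one, two_nsmul]; exact eq_neg_iff_add_eq_zero.1 h))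
    by_cases h3 : a = b ∨ a = -b
    · have : Δ = {a, -a} := by
        rcases h3 with rfl | rfl
        · ext; simp only [Δ, Finset.mem_insert, Finset.mem_singleton]; tauto
        · ext; simp only [Δ, Finset.mem_insert, Finset.mem_singleton, neg_neg]; tauto
      rw [this, Finset.card_pair na] at h1
      exact two 1 m h1
    · push Not at h3
      have : Δ.card = 4 := Finset.card_eq_four.2 ⟨_, _, _, _, na, h3.1, h3.2,
        fun h => h3.2 (neg_eq_iff_eq_neg.1 h), fun h => h3.1 (neg_injective h), nb, rfl⟩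
      rw [this] at h1
      exact two 2 m h1
  simp only [zero_add] at hΔ
  have ka : g • a = a ∨ g • a = -a ∨ g • a = b ∨ g • a = -b := by simpa [Δ] using hΔ a (by simp [Δ])
  have kb : g • b = a ∨ g • b = -a ∨ g • b = b ∨ g • b = -b := by simpa [Δ] using hΔ b (by simp [Δ])
  have hc : (4 : ℕ).Coprime (Nat.card G) := (Nat.coprime_two_left.2 hG).pow_left 2
  have e4 : ∀ x : V, g ^ 4 • x = g • g • g • g • x := fun x => by
    simp only [pow_succ, pow_zero, one_mul, mul_smul]
  have inj : ∀ x y : V, g • x = g • y → x = y := fun x y h => MulAction.injective g h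
  have key : ∀ a b : V, (g • a = a ∨ g • a = -a ∨ g • a = b ∨ g • a = -b) →
      (g • b = a ∨ g • b = -a ∨ g • b = b ∨ g • b = -b) → g • a = a := fun a b ka kb => by
    refine smul_eq_of_pow hc ?_
    rw [e4]
    rcases ka with ka | ka | ka | ka
    · simp only [ka]
    · simp only [ka, smul_neg, neg_neg]
    · rcases kb with kb | kb | kb | kb
      · simp only [ka, kb]
      · simp only [ka, kb, smul_neg, neg_neg]
      · obtain rfl := inj a b (ka.trans kb.symm)
        simp only [ka]
      · obtain rfl := inj a (-b) (by rw [smul_neg, kb, neg_neg, ka])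
        simp only [kb, smul_neg, neg_neg]
    · rcases kb with kb | kb | kb | kb
      · simp only [ka, kb, smul_neg, neg_neg]
      · simp only [ka, kb, smul_neg, neg_neg]
      · obtain rfl := inj a (-b) (by rw [smul_neg, kb, ka])
        simp only [kb, smul_neg]
      · obtain rfl := inj a b (ka.trans kb.symm)
        simp only [kb, smul_neg, neg_neg]
  exact ⟨rfl, hab g (key a b ka kb) (key b a (by tauto) (by tauto))⟩

end Modules

open scoped IsMulCommutative in
/-- Conjugation action of a subgroup on an abelian normal subgroup. -/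
@[reducible] def conjAct {X : Type*} [Group X] (M : Subgroup X) [hM : M.Normal] [IsMulCommutative M]
    (H : Subgroup X) : DistribMulAction H (Additive M) where
  smul h m := Additive.ofMul ⟨h * m.toMul * (h : X)⁻¹, hM.conj_mem _ m.toMul.2 h⟩
  one_smul m := congrArg Additive.ofMul (Subtype.ext (by simp; rfl))
  mul_smul a b m := congrArg Additive.ofMul (Subtype.ext (by
    change _ = (a : X) * (b * m.toMul * (b : X)⁻¹) * (a : X)⁻¹
    simp [mul_assoc]))
  smul_zero h := congrArg Additive.ofMul (Subtype.ext (by simp))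
  smul_add h m n := congrArg Additive.ofMul (Subtype.ext (by
    change _ = (h : X) * m.toMul * (h : X)⁻¹ * (h * n.toMul * (h : X)⁻¹)
    simp [mul_assoc]))

open scoped IsMulCommutative in
theorem dist_of_core_free {C : Type*} {X : Type u} [Group X] [Finite X] [Group.IsSolvable X]
    {H : Subgroup X} (hH : IsCoatom H) (hc : H.normalCore = ⊥)
    (hA : ∀ (V : Type u) [AddCommGroup V] [Finite V] [DistribMulAction H V], Irr H V →
      Nat.card V ∣ Nat.card X → Aff C H V) : Dist C H := by
  have : Nontrivial X := by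
    by_contra h
    have := not_nontrivial_iff_subsingleton.1 h
    exact hH.1 (Subsingleton.elim _ _)
  obtain ⟨p, M, -, hM, hM0, hel, hmin⟩ := Core.exists_elementaryAbelian_minimal_normal X
  have : IsMulCommutative M := hel.1
  have hcore : ∀ N : Subgroup X, N.Normal → N ≤ H → N = ⊥ := fun N _ h =>
    le_bot_iff.1 (hc ▸ normal_le_normalCore.2 h)
  have hsup : M ⊔ H = ⊤ := hH.2 _ (lt_of_le_of_ne le_sup_right fun h =>
    hM0 (hcore M hM (h ▸ le_sup_left)))
  have hdec : ∀ x : X, ∃ m ∈ M, ∃ h ∈ H, m * h = x := fun x => by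
    have : x ∈ (↑(M ⊔ H) : Set X) := hsup ▸ mem_top x
    rw [normal_mul] at this
    exact this
  have hnorm : ∀ N : Subgroup X, N ≤ centralizer (M : Set X) → (∀ h ∈ H, ∀ n ∈ N, h * n * h⁻¹ ∈ N) →
      N.Normal := fun N h1 h2 => ⟨fun n hn x => by
    obtain ⟨m, hm, h, hh, rfl⟩ := hdec x
    have := h1 (h2 h hh n hn) m hm
    rw [show m * h * n * (m * h)⁻¹ = m * (h * n * h⁻¹) * m⁻¹ by group, this, mul_inv_cancel_right]
    exact h2 h hh n hn⟩
  have hinf : M ⊓ H = ⊥ := hcore _ (hnorm _ (inf_le_left.trans (le_centralizer M))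
    fun h hh n hn => ⟨hM.conj_mem n hn.1 h, H.mul_mem (H.mul_mem hh hn.2) (H.inv_mem hh)⟩)
    inf_le_right
  have hcent : centralizer (M : Set X) ⊓ H = ⊥ := hcore _ (hnorm _ inf_le_left
    fun h hh n hn => ⟨(inferInstance : (centralizer (M : Set X)).Normal).conj_mem n hn.1 h,
      H.mul_mem (H.mul_mem hh hn.2) (H.inv_mem hh)⟩) inf_le_right
  let _ := conjAct M H
  obtain ⟨col, hcol⟩ := hA (Additive M) (fun U hU => by
    have h1 := hmin (U.toSubgroup'.map M.subtype) (hnorm _
      ((map_subtype_le _).trans (le_centralizer M)) (by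
        rintro h hh _ ⟨n, hn, rfl⟩
        exact ⟨_, hU ⟨h, hh⟩ (Additive.ofMul n) hn, rfl⟩)) (map_subtype_le _)
    refine h1.imp (fun h => ?_) fun h => ?_
    · rw [map_eq_bot_iff_of_injective _ M.subtype_injective] at h
      exact AddSubgroup.toSubgroup'.injective (h.trans (BotHomClass.map_bot _).symm)
    · have h2 : U.toSubgroup' = ⊤ := map_injective M.subtype_injective
        (by rw [h, ← MonoidHom.range_eq_map, range_subtype])
      exact AddSubgroup.toSubgroup'.injective (h2.trans (map_top _).symm))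
    (card_subgroup_dvd_card M)
  choose μ hμ η hη hμη using hdec
  have huniq : ∀ x : X, ∀ m ∈ M, ∀ h ∈ H, m * h = x → μ x = m := fun x m hm h hh e => by
    have : m⁻¹ * μ x ∈ M ⊓ H := ⟨M.mul_mem (M.inv_mem hm) (hμ x), by
      rw [show m⁻¹ * μ x = h * (η x)⁻¹ by
        rw [inv_mul_eq_iff_eq_mul, ← mul_assoc, e, eq_mul_inv_iff_mul_eq, hμη]]
      exact H.mul_mem hh (H.inv_mem (hη x))⟩
    rw [hinf, mem_bot, inv_mul_eq_one] at this
    exact this.symm
  refine ⟨fun q => Quotient.liftOn' q (fun x => col (Additive.ofMul ⟨μ x, hμ x⟩)) fun a b h => ?_,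
    fun s hs g => ?_⟩
  · rw [QuotientGroup.leftRel_apply] at h
    simp only [huniq b _ (hμ a) _ (H.mul_mem (hη a) h) (by rw [← mul_assoc, hμη]; simp)]
  · obtain ⟨h1, h2⟩ := hcol (Additive.ofMul ⟨μ s, hμ s⟩) ⟨η s, hη s⟩ fun x => by
      have h3 : col _ = col _ := hs (x.toMul : X)
      simp only [huniq x.toMul _ x.toMul.2 1 H.one_mem (mul_one _),
        huniq (s * x.toMul) (μ s * (η s * x.toMul * (η s)⁻¹))
          (M.mul_mem (hμ s) (hM.conj_mem _ x.toMul.2 _)) _ (hη s)
          (by rw [mul_assoc, inv_mul_cancel_right, ← mul_assoc, hμη])] at h3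
      exact h3
    have h3 : μ s = 1 := congrArg (fun x : Additive M => (x.toMul : X)) h1
    have h4 : η s ∈ centralizer (M : Set X) ⊓ H := ⟨fun m hm => by
      have : η s * m * (η s)⁻¹ = m :=
        congrArg (fun x : Additive M => (x.toMul : X)) (h2 (Additive.ofMul ⟨m, hm⟩))
      rw [← mul_inv_eq_iff_eq_mul.1 this], hη s⟩
    rw [hcent, mem_bot] at h4
    rw [← hμη s, h3, h4]
    simp

theorem dist_of_isCoatom {C : Type*} {X : Type u} [Group X] [Finite X] [Group.IsSolvable X]
    {H : Subgroup X} (hH : IsCoatom H)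
    (hA : ∀ (G V : Type u) [Group G] [Finite G] [Group.IsSolvable G] [AddCommGroup V] [Finite V]
      [DistribMulAction G V], Irr G V → Nat.card G < Nat.card X → Nat.card G ∣ Nat.card X →
      Nat.card V ∣ Nat.card X → Aff C G V) : Dist C H := by
  let π := QuotientGroup.mk' H.normalCore
  have hπ : Function.Surjective π := QuotientGroup.mk'_surjective _
  have hk : π.ker ≤ H := by rw [QuotientGroup.ker_mk']; exact normalCore_le H
  have h1 : (H.map π).comap π = H := comap_map_eq_self hk
  have hd : Nat.card (H.map π) ∣ Nat.card H := card_map_dvd H π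
  obtain ⟨f, hf⟩ : Dist C (H.map π) := dist_of_core_free
    ⟨fun h => hH.1 (by rw [← h1, h, comap_top]), fun M hM => by
      rw [← map_comap_eq_self_of_surjective hπ M, hH.2 (M.comap π)
        (h1.symm.trans_lt ((comap_lt_comap_of_surjective hπ).2 hM)), map_top_of_surjective _ hπ]⟩
    (by
      rw [← map_comap_eq_self_of_surjective hπ (H.map π).normalCore, Subgroup.map_eq_bot_iff,
        QuotientGroup.ker_mk', normal_le_normalCore]
      exact (comap_mono (normalCore_le _)).trans h1.le)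
    fun V _ _ _ h2 h3 => hA _ V h2 (lt_of_le_of_lt (Nat.le_of_dvd Nat.card_pos hd)
      (Finite.card_subtype_lt (not_forall.1 fun h => hH.1 ((eq_top_iff' H).2 h)).choose_spec))
      (hd.trans (card_subgroup_dvd_card H)) (h3.trans (card_quotient_dvd_card _))
  refine ⟨fun q => Quotient.liftOn' q (fun x => f (π x)) fun a b h => ?_, fun s hs g => ?_⟩
  · rw [QuotientGroup.leftRel_apply] at h
    exact congrArg f (QuotientGroup.eq.2 (by simpa using mem_map_of_mem π h))
  · refine h1.le ?_
    rw [mem_comap, map_mul, map_mul, map_inv]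
    refine hf (π s) (fun g => ?_) (π g)
    obtain ⟨g, rfl⟩ := hπ g
    exact hs g

end CfsgLib.Base
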