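import Mathlib
import Cfsg.Agent.Lib.Base.Wreath

/-!
Reduction of the existence of small bases of modules to primitive modules.
-/

set_option autoImplicit false

namespace CfsgLib.Base

open Subgroup
open scoped Pointwise commutatorElement

universe u

section Defs

variable (G : Type*) {V : Type*} [Group G] [AddCommGroup V] [DistribMulAction G V]

/-- `U` is independent from its other translates. -/
def Blk (U : AddSubgroup V) : Prop := Disjoint U (⨆ g : G, ⨆ _ : g • U ≠ U, g • U)

variable (V) in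
/-- Primitive modules. -/
def Prim : Prop := ∀ U : AddSubgroup V, U ≠ ⊥ → Blk G U → U = ⊤

variable (V) in
/-- The image of the acting group. -/
def rng : Subgroup (V ≃ₗ[ℤ] V) := (DistribMulAction.toModuleAut ℤ V : G →* V ≃ₗ[ℤ] V).range

variable (V) in
/-- The kernel of the action. -/
def kerA : Subgroup G := (MulAction.toPermHom G V).ker

instance : (kerA G V).Normal := MonoidHom.normal_ker _

variable {G}

theorem mem_kerA {g : G} : g ∈ kerA G V ↔ ∀ v : V, g • v = v := by
  simp [kerA, Equiv.ext_iff]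

/-- The action on an invariant subgroup. -/
@[reducible] def resAct {U : AddSubgroup V} (h : MInv G U) : DistribMulAction G U where
  smul g u := ⟨g • u, h g u u.2⟩
  one_smul u := Subtype.ext (one_smul G (u : V))
  mul_smul a b u := Subtype.ext (mul_smul a b (u : V))
  smul_zero g := Subtype.ext (smul_zero g)
  smul_add g a b := Subtype.ext (smul_add g (a : V) b)

theorem MInv.smul_eq {U : AddSubgroup V} (h : MInv G U) (g : G) : g • U = U := by
  ext v
  rw [AddSubgroup.mem_pointwise_smul_iff_inv_smul_mem]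
  exact ⟨fun h1 => by simpa using h g _ h1, h _ _⟩

theorem Prim.irr (h : Prim G V) : Irr G V := fun U hU => or_iff_not_imp_left.2 fun h0 =>
  h U h0 (by simp [Blk, hU.smul_eq])

end Defs

section Same

variable {ι G G' V : Type*} [Group G] [Group G'] [AddCommGroup V] [DistribMulAction G V]
  [DistribMulAction G' V]

theorem HasBase.of_le (h : HasBase ι G' V) (h1 : ∀ g : G, ∃ g' : G', ∀ v : V, g • v = g' • v) :
    HasBase ι G V := by
  obtain ⟨v, hv⟩ := h
  refine ⟨v, fun g hg u => ?_⟩
  obtain ⟨g', hg'⟩ := h1 g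
  rw [hg', hv g' fun i => by rw [← hg', hg]]

theorem MInv.of_le {U : AddSubgroup V} (h : MInv G' U)
    (h1 : ∀ g : G, ∃ g' : G', ∀ v : V, g • v = g' • v) : MInv G U := fun g u hu => by
  obtain ⟨g', hg'⟩ := h1 g
  exact hg' u ▸ h g' u hu

theorem CR.of_same (h : CR G' V) (h1 : ∀ g : G, ∃ g' : G', ∀ v : V, g • v = g' • v)
    (h2 : ∀ g' : G', ∃ g : G, ∀ v : V, g' • v = g • v) : CR G V := fun U hU => by
  obtain ⟨W, hW, h⟩ := h U (hU.of_le h2)
  exact ⟨W, hW.of_le h1, h⟩

theorem Prim.of_same (h : Prim G' V) (h2 : ∀ g' : G', ∃ g : G, ∀ v : V, g' • v = g • v) : Prim G V := fun U h0 hU => by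
  refine h U h0 (hU.mono_right (iSup₂_le fun g' hg' => ?_))
  obtain ⟨g, hg⟩ := h2 g'
  have : g' • U = g • U := by
    ext v
    simp only [AddSubgroup.mem_smul_pointwise_iff_exists, hg]
  rw [this] at hg' ⊢
  exact le_iSup₂_of_le (f := fun (g : G) (_ : g • U ≠ U) => g • U) g hg' le_rfl

theorem exists_rng (g : G) : ∃ r : rng G V, ∀ v : V, g • v = r • v :=
  ⟨⟨_, g, rfl⟩, fun _ => rfl⟩

theorem exists_rng' (r : rng G V) : ∃ g : G, ∀ v : V, r • v = g • v := by
  obtain ⟨_, g, rfl⟩ := r
  exact ⟨g, fun _ => rfl⟩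

instance [Finite G] : Finite (rng G V) :=
  Finite.of_surjective _ (MonoidHom.rangeRestrict_surjective _)

instance [Group.IsSolvable G] : Group.IsSolvable (rng G V) :=
  Group.isSolvable_of_surjective (MonoidHom.rangeRestrict_surjective _)

theorem card_rng_dvd : Nat.card (rng G V) ∣ Nat.card G :=
  card_dvd_of_surjective _ (MonoidHom.rangeRestrict_surjective _)

end Same

section Main

variable {ι C G V : Type*} [Group G] [AddCommGroup V] [DistribMulAction G V]

theorem CR.res (h : CR G V) {U : AddSubgroup V} (hU : MInv G U) :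
    letI := resAct hU
    CR G U := by
  intro W hW
  obtain ⟨X, hX, h1, h2⟩ := h (W.map U.subtype) (by
    rintro g _ ⟨w, hw, rfl⟩
    exact ⟨_, hW g w hw, rfl⟩)
  refine ⟨X.addSubgroupOf U, fun g u hu => hX g u hu, ?_, ?_⟩
  · rw [eq_bot_iff]
    intro w hw
    exact Subtype.ext (h1.le ⟨⟨w, hw.1, rfl⟩, hw.2⟩)
  · rw [eq_top_iff]
    intro u _
    obtain ⟨_, ⟨w, hw, rfl⟩, x, hx, e⟩ := AddSubgroup.mem_sup.1 (h2.ge (AddSubgroup.mem_top (u : V)))
    have hxU : x ∈ U := by
      rw [← eq_sub_iff_add_eq'] at e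
      exact e ▸ U.sub_mem u.2 w.2
    exact AddSubgroup.mem_sup.2 ⟨w, hw, ⟨x, hxU⟩, hx, Subtype.ext e⟩

theorem HasBase.sup {U W : AddSubgroup V} (hU : MInv G U) (hW : MInv G W) (h1 : U ⊓ W = ⊥)
    (h2 : U ⊔ W = ⊤) (bU : letI := resAct hU; HasBase ι G U)
    (bW : letI := resAct hW; HasBase ι G W) : HasBase ι G V := by
  obtain ⟨u, hu⟩ := bU
  obtain ⟨w, hw⟩ := bW
  refine ⟨fun i => u i + w i, fun g hg v => ?_⟩
  have h3 : ∀ i, g • (u i : V) = u i ∧ g • (w i : V) = w i := fun i => by
    have e := hg i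
    rw [smul_add] at e
    have e1 : g • (u i : V) - u i = w i - g • (w i : V) := by
      rw [sub_eq_sub_iff_add_eq_add, e, add_comm]
    have : g • (u i : V) - u i ∈ U ⊓ W :=
      ⟨U.sub_mem (hU g _ (u i).2) (u i).2, e1 ▸ W.sub_mem (w i).2 (hW g _ (w i).2)⟩
    rw [h1, AddSubgroup.mem_bot] at this
    exact ⟨sub_eq_zero.1 this, (sub_eq_zero.1 (e1.symm.trans this)).symm⟩
  obtain ⟨a, ha, b, hb, rfl⟩ := AddSubgroup.mem_sup.1 (h2.ge (AddSubgroup.mem_top v))
  have e1 : g • a = a := congrArg Subtype.val (hu g (fun i => Subtype.ext (h3 i).1) ⟨a, ha⟩)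
  have e2 : g • b = b := congrArg Subtype.val (hw g (fun i => Subtype.ext (h3 i).2) ⟨b, hb⟩)
  rw [smul_add, e1, e2]

theorem mInv_stabilizer (U : AddSubgroup V) : MInv (MulAction.stabilizer G U) U :=
  fun l u hu => by
    have := AddSubgroup.smul_mem_pointwise_smul u (l : G) U hu
    rwa [l.2] at this

theorem exists_prim_blk [Finite V] [Nontrivial V] : ∃ U : AddSubgroup V, U ≠ ⊥ ∧ Blk G U ∧
    (letI := resAct (mInv_stabilizer (G := G) U); Prim (MulAction.stabilizer G U) U) := by
  obtain ⟨U, ⟨h0, hU⟩, hmin⟩ := exists_minimal_of_wellFoundedLT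
    (fun U : AddSubgroup V => U ≠ ⊥ ∧ Blk G U) ⟨⊤, top_ne_bot, by
      simp [Blk, MInv.smul_eq (G := G) (U := ⊤) fun _ _ _ => trivial]⟩
  refine ⟨U, h0, hU, fun W hW0 hW => ?_⟩
  let _ := resAct (mInv_stabilizer (G := G) U)
  have hmap : ∀ l : MulAction.stabilizer G U,
      (l • W).map U.subtype = (l : G) • W.map U.subtype := fun l => by
    ext v
    simp only [AddSubgroup.mem_map, AddSubgroup.mem_smul_pointwise_iff_exists]
    constructor
    · rintro ⟨_, ⟨w, hw, rfl⟩, rfl⟩
      exact ⟨_, ⟨w, hw, rfl⟩, rfl⟩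
    · rintro ⟨_, ⟨w, hw, rfl⟩, rfl⟩
      exact ⟨_, ⟨w, hw, rfl⟩, rfl⟩
  have h1 : Blk G (W.map U.subtype) := by
    have h2 := (AddSubgroup.disjoint_map U.subtype_injective hW)
    refine (h2.disjoint_sup_right_of_disjoint_sup_left (hU.mono_left (sup_le
      (AddSubgroup.map_subtype_le _) (AddSubgroup.map_subtype_le _)))).mono_right
      (iSup₂_le fun g hg => ?_)
    by_cases h3 : g • U = U
    · refine le_sup_of_le_left ?_
      rw [← hmap ⟨g, h3⟩]
      refine AddSubgroup.map_mono (le_iSup₂_of_le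
        (f := fun (l : MulAction.stabilizer G U) (_ : l • W ≠ W) => l • W) ⟨g, h3⟩
        (fun h => hg ?_) le_rfl)
      rw [← hmap ⟨g, h3⟩, h]
    · exact le_sup_of_le_right (le_iSup₂_of_le (f := fun (g : G) (_ : g • U ≠ U) => g • U) g h3
        (AddSubgroup.pointwise_smul_le_pointwise_smul_iff.2 (AddSubgroup.map_subtype_le _)))
  have h2 := hmin ⟨fun h => hW0 (by
    rwa [AddSubgroup.map_eq_bot_iff_of_injective _ U.subtype_injective] at h), h1⟩
    (AddSubgroup.map_subtype_le W)
  exact AddSubgroup.map_injective U.subtype_injective (le_antisymm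
    (AddSubgroup.map_mono le_top) ((AddSubgroup.map_subtype_le _).trans h2))

theorem HasBase.of_blk [Finite G] (hV : Irr G V) {U : AddSubgroup V} (h0 : U ≠ ⊥) (hU : Blk G U)
    (hD : Dist C (MulAction.stabilizer G U))
    (hM : letI := resAct (mInv_stabilizer (G := G) U);
      Many C (ι → U) (kerA (MulAction.stabilizer G U) U)) : HasBase ι G V := by
  classical
  let _ := resAct (mInv_stabilizer (G := G) U)
  obtain ⟨φ, h1, h2⟩ := wreath hD hM
  have := Fintype.ofFinite (G ⧸ MulAction.stabilizer G U)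
  let ψ : ι → G → V := fun i g => g • (φ g i : V)
  have hψ : ∀ i (a b : G), (a : G ⧸ MulAction.stabilizer G U) = b → ψ i a = ψ i b :=
    fun i a b h => by
      have h3 := QuotientGroup.eq.1 h
      have h4 := h1 a ⟨_, h3⟩
      rw [show a * ((⟨_, h3⟩ : MulAction.stabilizer G U) : G) = b by simp] at h4
      simp only [ψ, h4]
      change _ = b • (a⁻¹ * b)⁻¹ • (φ a i : V)
      simp [smul_smul]
  refine ⟨fun i => ∑ q : G ⧸ MulAction.stabilizer G U, ψ i q.out, fun s hs => ?_⟩
  have h3 : ∀ i (g : G), s • ψ i g = ψ i (s * g) := fun i g => by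
    have e := hs i
    beta_reduce at e
    rw [Finset.smul_sum, ← Equiv.sum_comp (MulAction.toPerm s) fun q : G ⧸ MulAction.stabilizer G U => ψ i q.out,
      ← sub_eq_zero, ← Finset.sum_sub_distrib] at e
    have e1 : ∀ q : G ⧸ MulAction.stabilizer G U,
        ψ i (MulAction.toPerm s q).out = ψ i (s * q.out) := fun q => hψ i _ _ (by
      rw [QuotientGroup.out_eq', MulAction.toPerm_apply, ← MulAction.Quotient.mk_smul_out]; rfl)
    simp only [e1] at e
    have e2 : ∀ g : G, s • ψ i g - ψ i (s * g) ∈ (s * g) • U := fun g =>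
      AddSubgroup.sub_mem _ (by
        simp only [ψ, smul_smul]
        exact AddSubgroup.smul_mem_pointwise_smul _ _ _ (φ g i).2)
        (AddSubgroup.smul_mem_pointwise_smul _ _ _ (φ _ i).2)
    rw [← Finset.add_sum_erase _ _ (Finset.mem_univ (g : G ⧸ MulAction.stabilizer G U)),
      hψ i _ g (QuotientGroup.out_eq' _), hψ i (s * _) (s * g) (by
        rw [← smul_eq_mul, MulAction.Quotient.mk_smul_out]; rfl), add_eq_zero_iff_eq_neg] at e
    have e3 : (s * g)⁻¹ • (s • ψ i g - ψ i (s * g)) = 0 := (AddSubgroup.disjoint_def.1 hU)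
      (AddSubgroup.mem_pointwise_smul_iff_inv_smul_mem.1 (e2 g)) (by
        rw [e, smul_neg, Finset.smul_sum]
        refine neg_mem (sum_mem fun q hq => ?_)
        refine (le_iSup₂ (f := fun (g : G) (_ : g • U ≠ U) => g • U) ((s * g)⁻¹ * (s * q.out))
          fun h => (Finset.mem_erase.1 hq).1 ?_) ?_
        · rw [← QuotientGroup.out_eq' q, eq_comm, QuotientGroup.eq]
          simpa [mul_assoc] using h
        · rw [mul_smul]
          exact AddSubgroup.smul_mem_pointwise_smul _ _ _ (e2 _))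
    rwa [smul_eq_zero_iff_eq, sub_eq_zero] at e3
  have h4 := h2 s fun g => funext fun i => Subtype.ext (MulAction.injective (s * g) (by
    have := h3 i g
    simp only [ψ, smul_smul] at this
    exact this.symm))
  let W : AddSubgroup V := ⨆ g : G, g • U
  have hW : W = ⊤ := (hV W fun g v hv => by
    have : W ≤ g⁻¹ • W := iSup_le fun a => by
      rw [AddSubgroup.le_pointwise_smul_iff, inv_inv, ← mul_smul]
      exact le_iSup (fun g : G => g • U) (g * a)
    simpa using AddSubgroup.mem_pointwise_smul_iff_inv_smul_mem.1 (this hv)).resolve_left fun h =>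
      h0 (le_bot_iff.1 (h ▸ le_iSup_of_le (f := fun g : G => g • U) 1 (by rw [one_smul])))
  have h5 : W ≤ (DistribSMul.toAddMonoidHom V s).eqLocus (AddMonoidHom.id V) :=
    iSup_le fun g v hv => by
      obtain ⟨u, hu, rfl⟩ := (AddSubgroup.mem_smul_pointwise_iff_exists _ _ _).1 hv
      obtain ⟨l, hl, e⟩ := h4 g
      have e1 : (l : G) • u = u := congrArg Subtype.val (mem_kerA.1 hl ⟨u, hu⟩)
      rw [e, mul_smul, mul_smul, inv_smul_eq_iff] at e1
      exact e1
  exact fun u => h5 (hW ▸ AddSubgroup.mem_top u)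

theorem HasBase.exists_pair [Nontrivial V] (h : HasBase (Fin 2) G V) :
    ∃ v : Fin 2 → V, v 0 ≠ v 1 ∧ ∀ g : G, g • v = v → g ∈ kerA G V := by
  obtain ⟨v, hv⟩ := h
  by_cases h1 : v 0 = v 1
  · by_cases h2 : v 0 = 0
    · obtain ⟨u, hu⟩ := exists_ne (0 : V)
      refine ⟨![u, 0], hu, fun g _ => mem_kerA.2 (hv g fun i => ?_)⟩
      fin_cases i
      · simp [h2]
      · simp [← h1, h2]
    · refine ⟨![v 0, 0], h2, fun g hg => mem_kerA.2 (hv g fun i => ?_)⟩
      have : g • v 0 = v 0 := congrFun hg 0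
      fin_cases i
      · simpa using this
      · simpa [← h1] using this
  · exact ⟨v, h1, fun g hg => mem_kerA.2 (hv g (congrFun hg))⟩

theorem HasBase.many_two [Finite G] [Nontrivial V] (h : HasBase (Fin 2) G V)
    (hG : ¬ 2 ∣ Nat.card G) : Many (Fin 2) (Fin 2 → V) (kerA G V) := by
  obtain ⟨v, h1, h2⟩ := h.exists_pair
  refine many_of_prime ⟨fun v => ![v 1, v 0], fun v => ![v 1, v 0],
    fun v => funext fun i => by fin_cases i <;> rfl,
    fun v => funext fun i => by fin_cases i <;> rfl⟩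
    (fun l x => funext fun i => by fin_cases i <;> rfl) Nat.prime_two le_rfl
    (Equiv.ext fun v => funext fun i => by fin_cases i <;> rfl) hG
    (fun h => h1 (congrFun h 1)) h2

theorem HasBase.many_three [Finite G] [Nontrivial V] (h : HasBase (Fin 2) G V)
    (hG : ¬ 3 ∣ Nat.card G) : Many (Fin 3) (Fin 2 → V) (kerA G V) := by
  obtain ⟨v, h1, h2⟩ := h.exists_pair
  refine many_of_prime ⟨fun v => ![v 1, -v 0 - v 1], fun v => ![-v 0 - v 1, v 0],
    fun v => funext fun i => by fin_cases i <;> simp [sub_eq_add_neg, add_comm],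
    fun v => funext fun i => by fin_cases i <;> simp⟩
    (fun l x => funext fun i => by fin_cases i <;> simp [smul_sub]) Nat.prime_three le_rfl
    (Equiv.ext fun v => funext fun i => by fin_cases i <;> simp [pow_three, sub_eq_add_neg, add_comm]) hG
    (fun h => h1 (congrFun h 0).symm) h2

theorem HasBase.many_char [Finite G] [Nontrivial V] (h : HasBase (Fin 2) G V) {p : ℕ}
    (hp : p.Prime) (h5 : 5 ≤ p) (hV : ∀ v : V, p • v = 0) (hG : ¬ p ∣ Nat.card G) :
    Many (Fin 5) (Fin 2 → V) (kerA G V) := by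
  obtain ⟨v, h1, h2⟩ := h.exists_pair
  let γ : Equiv.Perm (Fin 2 → V) := ⟨fun v i => v i + (v 0 - v 1), fun v i => v i - (v 0 - v 1),
    fun v => funext fun i => by simp, fun v => funext fun i => by simp⟩
  have hγ : ∀ (n : ℕ) (v : Fin 2 → V) (i : Fin 2), (γ ^ n) v i = v i + n • (v 0 - v 1) :=
    fun n v => by
      induction n with
      | zero => simp
      | succ n ih =>
        intro i
        rw [pow_succ', Equiv.Perm.mul_apply]
        change (γ ^ n) v i + ((γ ^ n) v 0 - (γ ^ n) v 1) = _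
        rw [ih, ih, ih, succ_nsmul]
        abel
  refine many_of_prime γ (fun l x => funext fun i => by simp [γ, smul_sub]) hp h5
    (Equiv.ext fun v => funext fun i => by rw [hγ, hV, add_zero]; rfl) hG
    (fun h => h1 (sub_eq_zero.1 (add_eq_left.1 (congrFun h 0)))) h2

/-- Elementary operations on triples. -/
def elemOp (V : Type*) [AddCommGroup V] (i j : Fin 3) (h : i ≠ j) : Equiv.Perm (Fin 3 → V) where
  toFun v := v + Pi.single i (v j)
  invFun v := v - Pi.single i (v j)
  left_inv v := by simp [Pi.single_eq_of_ne h.symm]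
  right_inv v := by simp [Pi.single_eq_of_ne h.symm]

theorem elemOp_comm (i j k : Fin 3) (h1 : i ≠ j) (h2 : i ≠ k) (h3 : k ≠ j) :
    ⁅elemOp V i k h2, elemOp V k j h3⁆ = elemOp V i j h1 := by
  ext v : 1
  simp only [commutatorElement_def, Equiv.Perm.mul_apply, Equiv.Perm.inv_def, elemOp,
    Equiv.coe_fn_mk, Equiv.coe_fn_symm_mk, Pi.add_apply, Pi.sub_apply, Pi.single_eq_same,
    Pi.single_eq_of_ne h1.symm, Pi.single_eq_of_ne h2.symm, Pi.single_eq_of_ne h3.symm, sub_zero,
    Pi.single_add, Pi.single_sub]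
  abel

theorem HasBase.many_five [Group.IsSolvable G] [Finite V] [Nontrivial V]
    (h : HasBase (Fin 3) G V) : Many (Fin 5) (Fin 3 → V) (kerA G V) := by
  obtain ⟨v, h1, h2⟩ : ∃ v : Fin 3 → V, v ≠ 0 ∧ ∀ g : G, g • v = v → g ∈ kerA G V := by
    obtain ⟨v, hv⟩ := h
    by_cases h0 : v = 0
    · obtain ⟨u, hu⟩ := exists_ne (0 : Fin 3 → V)
      exact ⟨u, hu, fun g _ => mem_kerA.2 (hv g fun i => by simp [h0])⟩
    · exact ⟨v, h0, fun g hg => mem_kerA.2 (hv g (congrFun hg))⟩
  let Γ : Subgroup (Equiv.Perm (Fin 3 → V)) := closure {γ | ∃ i j h, elemOp V i j h = γ}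
  have hΓ : ∀ i j h, elemOp V i j h ∈ Γ := fun i j h => subset_closure ⟨i, j, h, rfl⟩
  refine many_of_perfect Γ.subtype (fun γ l x => ?_) ?_ ?_ h2
  · have : Γ ≤ centralizer {MulAction.toPerm l} := (closure_le _).2 (by
      rintro _ ⟨i, j, h, rfl⟩ _ rfl
      ext v : 1
      simp [elemOp, Pi.single_smul])
    exact (Equiv.congr_fun (this γ.2 _ rfl) x).symm
  · refine map_injective Γ.subtype_injective ?_
    rw [map_subtype_commutator, ← MonoidHom.range_eq_map, range_subtype]
    refine le_antisymm (commutator_le.2 fun a ha b hb => Γ.mul_mem (Γ.mul_mem (Γ.mul_mem ha hb)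
      (Γ.inv_mem ha)) (Γ.inv_mem hb)) ((closure_le _).2 ?_)
    rintro _ ⟨i, j, h, rfl⟩
    obtain ⟨k, h2, h3⟩ : ∃ k, i ≠ k ∧ k ≠ j := by revert i j; decide
    rw [← elemOp_comm i j k h h2 h3]
    exact commutator_mem_commutator (hΓ _ _ _) (hΓ _ _ _)
  · obtain ⟨j, hj⟩ := Function.ne_iff.1 h1
    obtain ⟨i, hi⟩ := exists_ne j
    refine ⟨⟨_, hΓ i j hi⟩, fun h => hj ?_⟩
    simpa [elemOp] using h

end Main

/-- The statement for all groups of order less than `n` in the class `P`. -/
def BaseLT (ι : Type) (P : ℕ → Prop) (n : ℕ) : Prop :=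
  ∀ (G V : Type u) [Group G] [Finite G] [Group.IsSolvable G] [AddCommGroup V] [Finite V]
    [DistribMulAction G V], Nat.card G < n → P (Nat.card G) → CR G V → HasBase ι G V

theorem BaseLT.mono {ι : Type} {P : ℕ → Prop} {m n : ℕ} (h : BaseLT.{u} ι P n) (hm : m ≤ n) :
    BaseLT.{u} ι P m := fun G V _ _ _ _ _ _ h1 => h G V (h1.trans_le hm)

theorem dist_of_baseLT {ι C : Type} [Nonempty C] {P : ℕ → Prop} (hP : ∀ a b, a ∣ b → P b → P a)
    (haff : ∀ (G V : Type u) [Group G] [Finite G] [AddCommGroup V] [Finite V]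
      [DistribMulAction G V], P (Nat.card G) → P (Nat.card V) → HasBase ι G V → Aff C G V)
    (hcol : ∀ (L : Type u) [Group L] [Finite L] [Group.IsSolvable L] (H : Subgroup L),
      P (Nat.card L) → Dist C H → Many C (Col (L ⧸ H) C) H.normalCore)
    {G : Type u} [Group G] [Finite G] [Group.IsSolvable G] (h : BaseLT.{u} ι P (Nat.card G))
    (hG : P (Nat.card G)) (H : Subgroup G) : Dist C H :=
  dist_all (fun L H hH => by
    have hL := hP _ _ (card_subgroup_dvd_card L) hG
    exact hcol L H hL (dist_of_isCoatom hH fun G' V _ _ _ _ _ _ h1 h2 h3 h4 =>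
      haff G' V (hP _ _ h3 hL) (hP _ _ h4 hL) (h G' V (h2.trans_le (card_le_card_group L))
        (hP _ _ h3 hL) h1.cr))) H

theorem baseLT_all {ι C : Type} [Nonempty C] {P : ℕ → Prop} (hP : ∀ a b, a ∣ b → P b → P a)
    (haff : ∀ (G V : Type u) [Group G] [Finite G] [AddCommGroup V] [Finite V]
      [DistribMulAction G V], P (Nat.card G) → P (Nat.card V) → HasBase ι G V → Aff C G V)
    (hcol : ∀ (L : Type u) [Group L] [Finite L] [Group.IsSolvable L] (H : Subgroup L),
      P (Nat.card L) → Dist C H → Many C (Col (L ⧸ H) C) H.normalCore)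
    (hvec : ∀ (G V : Type u) [Group G] [Finite G] [Group.IsSolvable G] [AddCommGroup V] [Finite V]
      [Nontrivial V] [DistribMulAction G V], P (Nat.card G) → HasBase ι G V →
      Many C (ι → V) (kerA G V))
    (hprim : ∀ (G V : Type u) [Group G] [Finite G] [Group.IsSolvable G] [AddCommGroup V] [Finite V]
      [Nontrivial V] [DistribMulAction G V] [FaithfulSMul G V], P (Nat.card G) →
      BaseLT.{u} ι P (Nat.card G) → Prim G V → HasBase ι G V) (n : ℕ) : BaseLT.{u} ι P n := by
  induction n with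
  | zero => exact fun _ _ _ _ _ _ _ _ h => absurd h (Nat.not_lt_zero _)
  | succ n ih =>
    intro G V _ _ _ _ _ _ hn hG hV
    replace ih := ih.mono (Nat.le_of_lt_succ hn)
    induction hm : Nat.card V using Nat.strong_induction_on generalizing V with
    | _ m ihm =>
      subst hm
      by_cases h1 : Irr G V
      · rcases subsingleton_or_nontrivial V with h2 | h2
        · exact ⟨0, fun _ _ _ => Subsingleton.elim _ _⟩
        obtain ⟨U, h0, hU, hp⟩ := exists_prim_blk (G := G) (V := V)
        let _ := resAct (mInv_stabilizer (G := G) U)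
        have : Nontrivial U := (AddSubgroup.nontrivial_iff_ne_bot U).2 h0
        have hL := card_subgroup_dvd_card (MulAction.stabilizer G U)
        have hR := (card_rng_dvd (G := MulAction.stabilizer G U) (V := U)).trans hL
        exact HasBase.of_blk h1 h0 hU (dist_of_baseLT hP haff hcol ih hG _)
          (hvec _ _ (hP _ _ hL hG) ((hprim (rng (MulAction.stabilizer G U) U) U (hP _ _ hR hG)
            (ih.mono (Nat.le_of_dvd Nat.card_pos hR))
            (hp.of_same exists_rng)).of_le exists_rng))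
      · simp only [Irr, not_forall, not_or] at h1
        obtain ⟨U, hU, h0, h1⟩ := h1
        obtain ⟨W, hW, h2, h3⟩ := hV U hU
        have lt : ∀ U : AddSubgroup V, U ≠ ⊤ → Nat.card U < Nat.card V := fun U h =>
          Finite.card_subtype_lt (not_forall.1 fun h' => h ((AddSubgroup.eq_top_iff' U).2 h')).choose_spec
        let _ := resAct hU
        let _ := resAct hW
        exact HasBase.sup hU hW h2 h3 (ihm _ (lt U h1) U (hV.res hU) rfl)
          (ihm _ (lt W fun h => h0 (by simpa [h] using h2)) W (hV.res hW) rfl)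

end CfsgLib.Base
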