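import Mathlib
import Cfsg.Agent.Lib.Base.Aniso

/-!
The field with four elements, and the double step along two hyperbolic pairs of involutions.
-/

set_option autoImplicit false

namespace CfsgLib.Base

variable {K V : Type*} [Field K] [AddCommGroup V] [Module K V]
variable {E : Subgroup (V ≃ₗ[K] V)} {r : ℕ} {ζ : K} {a b w t w₁ t₁ w₂ t₂ : V ≃ₗ[K] V}
variable {g : V ≃+ V} {σ : K →+* K} {Φ : (V ≃+ V) → Prop}

/-- `g` has no cycle of length two. -/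
def NoSwap (g : V ≃+ V) : Prop := ∀ a b, g a = b → g b = a → a = b

theorem reg_of_scalar (h : ∀ e ∈ E, ∃ c : K, IsSc c e) {x : V} (hx : x ≠ 0) : Reg E x :=
  fun e he h1 => by
    obtain ⟨c, hc⟩ := h e he
    exact hc.eq_one_of_fix hx h1

theorem Pair.split [Finite K] [Nontrivial V] (hp : Pair E r ζ w t) (hE : Sym E) {x : V}
    (hR : Reg (sub E w t) x) (hx : x ≠ 0) (hw : w x = x) (hN : Norm E g σ) (hg : g x = x)
    {y a : V} (hy : w y = y) (ha : w a = ζ • a) (h : g (y + a) = y + a) : g y = y ∧ g a = a := by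
  obtain ⟨b, hb, hwb⟩ := hp.norm_w hE hR hx hw hN hg
  obtain ⟨θ, -, h2, h3⟩ := hp.eig_map hN hb hwb
  rw [map_add] at h
  have P := proj2 (by simpa using h3 y 0 (by simpa using hy) : w (g y) = (1 : K) • g y)
    (by simpa using h3 a 1 (by simpa using ha) : w (g a) = θ • g a) (one_eig hy) ha h
  have h4 : g y = y := by simpa [h2, hp.ne_one] using P 1
  rw [h4] at h
  exact ⟨h4, add_left_cancel h⟩

theorem Pair.step_four [Finite K] [Nontrivial V] (hp : Pair E 3 ζ w t) (hE : Sym E)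
    (h4 : ∀ s : K, s ≠ 0 → s ^ 3 = 1) {U : Submodule K V} (hU : Inv E U) (h0 : U ≠ ⊥)
    (h : ∀ e ∈ sub E w t, ∃ c : K, IsSc c e) :
    ∃ z, ((∀ g, Φ g → NoSwap g) → z = 0) ∧ GoodS Φ E U z := by
  obtain ⟨x, ⟨hxU, hw⟩, hx⟩ := (Submodule.ne_bot_iff _).1 (hp.fixU_ne hU h0)
  have hw : w x = x := hw
  have hR := reg_of_scalar h hx
  have hr : (3 : ℕ) ≠ 2 := by norm_num
  have hγ : ∀ c : K, c ≠ 0 → ∃ n : ℕ, c = ζ ^ n := fun c hc => by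
    obtain ⟨n, -, hn⟩ := hp.prim.eq_pow_of_pow_eq_one (h4 c hc)
    exact ⟨n, hn.symm⟩
  have z3 := sq_ne_self hp.prime hp.prim.pow_eq_one hp.ne_one
  have hne : t x ≠ t (t x) := fun h => z3 (eig_unique (apply_ne_zero t hx)
    (by rw [h]; exact h ▸ hp.eig_tt hw) (hp.eig_t hw))
  have h1 := hp.odd_reg hE hr hR hx hw (map_zero w) hx hw fun _ f _ _ _ h =>
    apply_ne_zero t hx (h.symm.trans (map_zero f))
  have key : ∀ z, IsBase Φ E (0 + t x + t (t x)) x z → GoodS Φ E U z := fun z hz =>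
    ⟨_, U.add_mem (U.add_mem U.zero_mem (hU t hp.mem_b x hxU))
      (hU t hp.mem_b _ (hU t hp.mem_b x hxU)), x, hxU, h1.ne_zero hp.toWPair, hx, h1, hz,
      hp.odd_sep hE hr hx hw (map_zero w) hx hw⟩
  by_cases hΦ : ∀ g, Φ g → NoSwap g
  · refine ⟨0, fun _ => rfl, key 0 (hp.odd_base hE hr hR hx hw (map_zero w) hx hw
      (fun g σ hg hN _ hgx _ _ => ?_) (fun _ g _ hg _ _ _ _ h1 h2 => hne (hΦ g hg _ _ h1 h2))
      fun _ _ _ _ h _ => h)⟩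
    have h2 : σ (σ ζ) = ζ := by
      obtain ⟨n, hn3, hn⟩ := hp.prim.eq_pow_of_pow_eq_one (h4 (σ ζ) ((map_ne_zero σ).2 hp.ne_zero))
      interval_cases n
      · exact absurd (σ.injective (hn.symm.trans (by simp))) hp.ne_one
      · rw [← hn, pow_one, ← hn, pow_one]
      · rw [← hn, map_pow, ← hn, ← pow_mul, show 2 * 2 = 3 + 1 from rfl, pow_succ,
          hp.prim.pow_eq_one, one_mul]
    have h3 := hΦ g hg (ζ • x) (σ ζ • x) (by rw [hN.semi, hgx]) (by rw [hN.semi, hgx, h2])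
    have hσ := ringHom_eq_of_gen hγ (smul_cancel hx h3).symm
    exact ⟨hσ, cent_of_scalar h hN hσ⟩
  · have hz : w (ζ • x) = ζ • x := by rw [map_smul, hw]
    refine ⟨ζ • x + t x, fun h => absurd h hΦ, key _ (hp.odd_base hE hr hR hx hw (map_zero w) hx hw
      (fun g σ _ hN _ hgx _ hgz => ?_) (fun _ g σ _ hN hgx _ hgz h1 _ => hne ?_)
      fun _ _ _ _ h _ => h)⟩
    · have h2 := (hp.split hE hR hx hw hN hgx hz (hp.eig_t hw) hgz).1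
      rw [hN.semi, hgx] at h2
      have hσ := ringHom_eq_of_gen hγ (smul_cancel hx h2)
      exact ⟨hσ, cent_of_scalar h hN hσ⟩
    · rw [← h1, (hp.split hE hR hx hw hN hgx hz (hp.eig_t hw) hgz).2]

theorem Sym.four [Finite K] [Finite V] [Nontrivial V] (h4 : ∀ s : K, s ≠ 0 → s ^ 3 = 1)
    (Φ : (V ≃+ V) → Prop) (hE : Sym E) {U : Submodule K V} (hU : Inv E U) (h0 : U ≠ ⊥) :
    (∀ e ∈ E, ∃ c : K, IsSc c e) ∨ ∃ z, ((∀ g, Φ g → NoSwap g) → z = 0) ∧ GoodS Φ E U z := by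
  have := finite_equiv (K := K) (V := V)
  induction E using WellFoundedLT.induction generalizing U with
  | ind E ih =>
    by_cases hA : Aniso E
    · refine (hA.cases hE).imp_right fun h => absurd ⟨1, ?_⟩ h.1
      have := h4 (-1) (neg_ne_zero.2 one_ne_zero)
      linear_combination this
    simp only [Aniso, not_forall, not_not] at hA
    obtain ⟨r, ζ, w, t, hp⟩ := hA
    obtain rfl := hp.eq_three (h4 ζ hp.ne_zero)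
    right
    rcases ih _ hp.sub_lt (hp.sym hE) (hU.sub w t) (hp.fixU_ne hU h0) with h | ⟨z, h1, h2⟩
    · exact hp.step_four hE h4 hU h0 h
    · exact ⟨z, h1, hp.step_three_sep hE (by norm_num) hU h2⟩

theorem Norm.surj [Finite V] (hN : Norm E g σ) {e : V ≃ₗ[K] V} (he : e ∈ E) :
    ∃ d ∈ E, Im g d e := by
  have := finite_equiv (K := K) (V := V)
  choose f hf1 hf2 using hN.conj
  have h : Function.Injective fun e : E => (⟨f e.1 e.2, hf1 e.1 e.2⟩ : E) := fun e e' h => by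
    have h1 : f e.1 e.2 = f e'.1 e'.2 := congrArg Subtype.val h
    exact Subtype.ext ((hf2 e.1 e.2).inj (h1 ▸ hf2 e'.1 e'.2))
  obtain ⟨d, hd⟩ := Finite.injective_iff_surjective.1 h ⟨e, he⟩
  have h1 : f d.1 d.2 = e := congrArg Subtype.val hd
  exact ⟨d, d.2, h1 ▸ hf2 d.1 d.2⟩

theorem Pair.norm_t [Nontrivial V] (hp : Pair E 2 (-1) w t) (hE : Sym E)
    (h : ∃ β : K, IsSc (β ^ 2) (t ^ 2) ∨ IsSc (-β ^ 2) (t ^ 2)) :
    ∃ t', Pair E 2 (-1) w t' ∧ t' ^ 2 = 1 ∧ sub E w t' = sub E w t := by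
  have key : ∀ {t : V ≃ₗ[K] V} {β : K}, Pair E 2 (-1) w t → IsSc (β ^ 2) (t ^ 2) →
      ∃ t', Pair E 2 (-1) w t' ∧ t' ^ 2 = 1 ∧ sub E w t' = sub E w t := fun {t β} hp h => by
    have h0 : β ≠ 0 := fun h0 => h.ne_zero (by rw [h0, zero_pow two_ne_zero])
    refine ⟨sc (Units.mk0 β h0)⁻¹ * t, ⟨by
      simpa using (hp.swap.rescale hE (Units.mk0 β h0)⁻¹).swap, hp.one⟩, IsSc.eq_one ?_, ?_⟩
    · have := isSc_sc_mul_pow (Units.mk0 β h0)⁻¹ h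
      rwa [Units.val_inv_eq_inv_val, Units.val_mk0, ← mul_pow, inv_mul_cancel₀ h0, one_pow] at this
    · ext e
      rw [mem_sub, mem_sub]
      refine and_congr_right fun _ => and_congr_right fun _ => ⟨fun h => ?_, fun h => ?_⟩
      · simpa [← mul_assoc] using
          ((isSc_sc (Units.mk0 β h0)⁻¹).cm_left e).inv_left_one.mul_left h
      · simpa using ((isSc_sc (Units.mk0 β h0)⁻¹).cm_left e).mul_left h
  obtain ⟨β, h | h⟩ := h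
  · exact key hp h
  · have h1 := isSc_mul_sq hp.cm h (hp.one ▸ isSc_one)
    obtain ⟨t', h2, h3, h4⟩ := key (t := t * w) (β := β) ⟨⟨hp.prime, hp.prim, hp.mem_a,
      mul_mem hp.mem_b hp.mem_a, by simpa using hp.cm.mul_right (cm_self w), hp.pa, _, h1⟩,
      hp.one⟩ (by simpa using h1)
    refine ⟨t', h2, h3, h4.trans ?_⟩
    ext e
    rw [mem_sub, mem_sub]
    refine and_congr_right fun _ => and_congr_right fun hw => ⟨fun h => ?_, fun h => ?_⟩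
    · simpa using h.mul_left hw.inv_left_one
    · simpa using h.mul_left hw

/-- Two commuting hyperbolic pairs of involutions modulo scalars. -/
structure Dbl (E : Subgroup (V ≃ₗ[K] V)) (w₁ t₁ w₂ t₂ : V ≃ₗ[K] V) : Prop where
  p₁ : Pair E 2 (-1) w₁ t₁
  p₂ : Pair (sub E w₁ t₁) 2 (-1) w₂ t₂

/-- The centralizer of both pairs. -/
abbrev sub4 (E : Subgroup (V ≃ₗ[K] V)) (w₁ t₁ w₂ t₂ : V ≃ₗ[K] V) : Subgroup (V ≃ₗ[K] V) :=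
  sub (sub E w₁ t₁) w₂ t₂

theorem mem_sub4 {e : V ≃ₗ[K] V} : e ∈ sub4 E w₁ t₁ w₂ t₂ ↔
    e ∈ E ∧ Cm 1 w₁ e ∧ Cm 1 t₁ e ∧ Cm 1 w₂ e ∧ Cm 1 t₂ e := by
  simp only [mem_sub, and_assoc]

theorem Dbl.mw₂ (h : Dbl E w₁ t₁ w₂ t₂) : w₂ ∈ E := sub_le _ _ _ h.p₂.mem_a
theorem Dbl.mt₂ (h : Dbl E w₁ t₁ w₂ t₂) : t₂ ∈ E := sub_le _ _ _ h.p₂.mem_b
theorem Dbl.ww (h : Dbl E w₁ t₁ w₂ t₂) : Cm 1 w₁ w₂ := (mem_sub.1 h.p₂.mem_a).2.1
theorem Dbl.tw (h : Dbl E w₁ t₁ w₂ t₂) : Cm 1 t₁ w₂ := (mem_sub.1 h.p₂.mem_a).2.2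
theorem Dbl.wt (h : Dbl E w₁ t₁ w₂ t₂) : Cm 1 w₁ t₂ := (mem_sub.1 h.p₂.mem_b).2.1
theorem Dbl.tt (h : Dbl E w₁ t₁ w₂ t₂) : Cm 1 t₁ t₂ := (mem_sub.1 h.p₂.mem_b).2.2

theorem Dbl.of (hne : (-1 : K) ≠ 1) (m₁ : w₁ ∈ E) (m₂ : t₁ ∈ E) (m₃ : w₂ ∈ E) (m₄ : t₂ ∈ E)
    (o₁ : w₁ ^ 2 = 1) (o₂ : w₂ ^ 2 = 1) (s₁ : ∃ c, IsSc c (t₁ ^ 2)) (s₂ : ∃ c, IsSc c (t₂ ^ 2))
    (c₁ : Cm (-1) w₁ t₁) (c₂ : Cm (-1) w₂ t₂) (ww : Cm 1 w₁ w₂) (tw : Cm 1 t₁ w₂)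
    (wt : Cm 1 w₁ t₂) (tt : Cm 1 t₁ t₂) : Dbl E w₁ t₁ w₂ t₂ :=
  have hp : IsPrimitiveRoot (-1 : K) 2 := isPrimitiveRoot_of_prime Nat.prime_two (by simp) hne
  ⟨⟨⟨Nat.prime_two, hp, m₁, m₂, c₁, ⟨1, o₁ ▸ isSc_one⟩, s₁⟩, o₁⟩,
    ⟨⟨Nat.prime_two, hp, mem_sub.2 ⟨m₃, ww, tw⟩, mem_sub.2 ⟨m₄, wt, tt⟩, c₂,
      ⟨1, o₂ ▸ isSc_one⟩, s₂⟩, o₂⟩⟩

theorem Dbl.stab [Nontrivial V] (h : Dbl E w₁ t₁ w₂ t₂) (hE : Sym E) {x : V}
    (hR : Reg (sub4 E w₁ t₁ w₂ t₂) x) (hx : x ≠ 0) (h₁ : w₁ x = x) (h₂ : w₂ x = x)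
    {e : V ≃ₗ[K] V} (he : e ∈ E) (hc : e x = x) : ∃ i j : ℕ, e = w₁ ^ i * w₂ ^ j := by
  obtain ⟨i, e', he', rfl, h3⟩ := h.p₁.stab' hE he hx h₁ (by rw [hc, h₁])
  obtain ⟨j, hj⟩ := h.p₂.stab (h.p₁.sym hE) hR hx h₂ he' (c := 1) (by rw [h3, hc, one_smul])
  exact ⟨i, j, by rw [show e' = w₂ ^ j from LinearEquiv.ext fun v => by rw [hj, one_smul]]⟩

theorem Pair.pow_eq_self (hp : Pair E r ζ w t) {i : ℕ} (h : ζ ^ i = ζ) : w ^ i = w := by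
  rcases i with _ | i
  · exact absurd (by simpa using h.symm) hp.ne_one
  · rw [pow_succ] at h
    rw [pow_succ, hp.pow_eq_one ((mul_left_eq_self₀.1 h).resolve_right hp.ne_zero), one_mul]

theorem Dbl.cm_t₁ (h : Dbl E w₁ t₁ w₂ t₂) (i j : ℕ) : Cm ((-1) ^ i) (w₁ ^ i * w₂ ^ j) t₁ := by
  simpa using (h.p₁.cm.pow_left i).mul_left (h.tw.symm_one.pow_left j)

theorem Dbl.cm_t₂ (h : Dbl E w₁ t₁ w₂ t₂) (i j : ℕ) : Cm ((-1) ^ j) (w₁ ^ i * w₂ ^ j) t₂ := by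
  simpa using (h.wt.pow_left i).mul_left (h.p₂.cm.pow_left j)

theorem Dbl.cm_d (h : Dbl E w₁ t₁ w₂ t₂) (i j k l : ℕ) :
    Cm 1 (w₁ ^ i * w₂ ^ j) (w₁ ^ k * w₂ ^ l) := by
  have h1 : Cm 1 (w₁ ^ i * w₂ ^ j) w₁ := by
    simpa using ((cm_self w₁).pow_left i).mul_left (h.ww.symm_one.pow_left j)
  have h2 : Cm 1 (w₁ ^ i * w₂ ^ j) w₂ := by
    simpa using (h.ww.pow_left i).mul_left ((cm_self w₂).pow_left j)
  simpa using (h1.pow_right k).mul_right (h2.pow_right l)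

open Classical in
theorem pr_pr [Finite K] {l₁ l₂ : K} {u : V} (h₁ : w₁ u = l₁ • u) (h₂ : w₂ u = l₂ • u)
    (m₁ m₂ : K) : pr w₂ m₂ (pr w₁ m₁ u) = if l₁ = m₁ ∧ l₂ = m₂ then u else 0 := by
  rw [pr_ite h₁]
  by_cases h : l₁ = m₁
  · simp only [h, if_true, true_and, pr_ite h₂]
  · simp only [h, if_false, false_and, map_zero]

theorem Dbl.eig (h : Dbl E w₁ t₁ w₂ t₂) {x : V} (h₁ : w₁ x = x) (h₂ : w₂ x = x) :
    w₁ (t₁ x) = (-1 : K) • t₁ x ∧ w₂ (t₁ x) = (1 : K) • t₁ x ∧ w₁ (t₂ x) = (1 : K) • t₂ x ∧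
      w₂ (t₂ x) = (-1 : K) • t₂ x :=
  ⟨h.p₁.cm.eig_one h₁, h.tw.symm_one.eig_one h₂, h.wt.eig_one h₁, h.p₂.cm.eig_one h₂⟩

theorem Dbl.reg [Finite K] [Nontrivial V] (h : Dbl E w₁ t₁ w₂ t₂) (hE : Sym E) {x y : V}
    (hR : Reg (sub4 E w₁ t₁ w₂ t₂) x) (hx : x ≠ 0) (h₁ : w₁ x = x) (h₂ : w₂ x = x) (hy : y ≠ 0)
    (k₁ : w₁ y = y) (k₂ : w₂ y = y) : Reg E (y + t₁ x + t₂ x) := fun e he hY => by
  obtain ⟨α, hα⟩ := hE.comm w₁ h.p₁.mem_a e he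
  obtain ⟨β, hβ⟩ := hE.comm w₂ h.mw₂ e he
  have a2 : α = 1 ∨ α = -1 := sq_eq_one_iff.1 (by
    simpa only [inv_pow, inv_eq_one] using hα.symm.pow_eq_one (h.p₁.one ▸ isSc_one))
  have b2 : β = 1 ∨ β = -1 := sq_eq_one_iff.1 (by
    simpa only [inv_pow, inv_eq_one] using hβ.symm.pow_eq_one (h.p₂.one ▸ isSc_one))
  obtain ⟨e1, e2, e3, e4⟩ := h.eig h₁ h₂
  have n := h.p₁.ne_one
  have P := fun m₁ m₂ => congrArg (fun v => pr w₂ m₂ (pr w₁ m₁ v)) hY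
  simp only [map_add, pr_pr (hα.eig_one k₁) (hβ.eig_one k₂), pr_pr (hα.eig e1) (hβ.eig e2),
    pr_pr (hα.eig e3) (hβ.eig e4), pr_pr (one_eig k₁) (one_eig k₂), pr_pr e1 e2,
    pr_pr e3 e4] at P
  rcases a2 with rfl | rfl <;> rcases b2 with rfl | rfl
  · have q1 : e y = y := by simpa [n] using P 1 1
    have q2 : e (t₁ x) = t₁ x := by simpa [n, n.symm] using P (-1) 1
    have q3 : e (t₂ x) = t₂ x := by simpa [n, n.symm] using P 1 (-1)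
    obtain ⟨i, j, hij⟩ := h.stab hE hR hx h₁ h₂ (e := t₁⁻¹ * e * t₁)
      (mul_mem (mul_mem (inv_mem h.p₁.mem_b) he) h.p₁.mem_b) (by
        simp only [LinearEquiv.mul_apply, q2, inv_apply_self])
    have q4 : ∀ v, e v = (-1 : K) ^ i • (w₁ ^ i * w₂ ^ j) v := fun v => by
      obtain ⟨u, rfl⟩ := t₁.surjective v
      rw [h.cm_t₁ i j, smul_smul, ← mul_pow, ← hij]
      simp
    rw [q4, LinearEquiv.mul_apply, fix_pow k₂, fix_pow k₁] at q1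
    have q5 := eq_one_of_smul_eq hy q1
    rw [q5, h.p₁.pow_eq_one q5, one_mul] at q4
    rw [q4, one_smul, eig_pow e4] at q3
    rw [h.p₂.pow_eq_one (eq_one_of_smul_eq (apply_ne_zero t₂ hx) q3)] at q4
    exact LinearEquiv.ext fun v => (q4 v).trans (one_smul K _)
  · exact absurd (by simpa [n, n.symm] using P (-1) (-1)) hx
  · exact absurd (by simpa [n, n.symm] using P (-1) (-1)) hx
  · exact absurd (by simpa [n, n.symm] using P (-1) (-1)) hy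

theorem Dbl.sep [Finite K] [Nontrivial V] (h : Dbl E w₁ t₁ w₂ t₂) (hE : Sym E) {x y : V}
    (hx : x ≠ 0) (h₁ : w₁ x = x) (h₂ : w₂ x = x) (k₁ : w₁ y = y) (k₂ : w₂ y = y) :
    Sep E (y + t₁ x + t₂ x) x := fun e he hY => by
  obtain ⟨α, hα⟩ := hE.comm w₁ h.p₁.mem_a e he
  obtain ⟨β, hβ⟩ := hE.comm w₂ h.mw₂ e he
  obtain ⟨e1, e2, e3, e4⟩ := h.eig h₁ h₂
  have n := h.p₁.ne_one
  have P := fun m₁ m₂ => congrArg (fun v => pr w₂ m₂ (pr w₁ m₁ v)) hY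
  simp only [map_add, pr_pr (hα.eig_one h₁) (hβ.eig_one h₂), pr_pr (one_eig k₁) (one_eig k₂),
    pr_pr e1 e2, pr_pr e3 e4] at P
  by_cases h3 : α = 1
  · exact absurd (by simpa [n, n.symm, h3] using (P (-1) 1).symm) hx
  · exact absurd (by simpa [n, n.symm, h3] using (P 1 (-1)).symm) hx

theorem Dbl.split [Finite K] [Finite V] [Nontrivial V] (h : Dbl E w₁ t₁ w₂ t₂) (hE : Sym E)
    {x y : V} (hR : Reg (sub4 E w₁ t₁ w₂ t₂) x) (hx : x ≠ 0) (h₁ : w₁ x = x) (h₂ : w₂ x = x)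
    (k₁ : w₁ y = y) (k₂ : w₂ y = y) (hN : Norm E g σ) (hg : g x = x)
    (hY : g (y + t₁ x + t₂ x) = y + t₁ x + t₂ x) :
    g y = y ∧ ((g (t₁ x) = t₁ x ∧ g (t₂ x) = t₂ x) ∨ (g (t₁ x) = t₂ x ∧ g (t₂ x) = t₁ x)) := by
  have key : ∀ w ∈ E, w x = x → (w (g y) = (1 : K) • g y) ∧ (∃ α : K, w (g (t₁ x)) = α • g (t₁ x)) ∧
      ∃ α : K, w (g (t₂ x)) = α • g (t₂ x) := fun w hw hwx => by
    obtain ⟨d, hd, hdw⟩ := hN.surj hw
    obtain ⟨i, j, rfl⟩ := h.stab hE hR hx h₁ h₂ hd (g.injective (by rw [hdw, hg, hwx]))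
    have hd : (w₁ ^ i * w₂ ^ j) x = x := by rw [LinearEquiv.mul_apply, fix_pow h₂, fix_pow h₁]
    exact ⟨by rw [← hdw, LinearEquiv.mul_apply, fix_pow k₂, fix_pow k₁, one_smul],
      ⟨_, by rw [← hdw, (h.cm_t₁ i j).eig_one hd, hN.semi]⟩,
      ⟨_, by rw [← hdw, (h.cm_t₂ i j).eig_one hd, hN.semi]⟩⟩
  obtain ⟨a1, ⟨α, a2⟩, α', a3⟩ := key w₁ h.p₁.mem_a h₁
  obtain ⟨b1, ⟨β, b2⟩, β', b3⟩ := key w₂ h.mw₂ h₂
  obtain ⟨e1, e2, e3, e4⟩ := h.eig h₁ h₂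
  have n := h.p₁.ne_one
  have P := fun m₁ m₂ => congrArg (fun v => pr w₂ m₂ (pr w₁ m₁ v)) hY
  simp only [map_add, pr_pr a1 b1, pr_pr a2 b2, pr_pr a3 b3, pr_pr (one_eig k₁) (one_eig k₂),
    pr_pr e1 e2, pr_pr e3 e4] at P
  have P1 := P (-1) 1
  have P2 := P 1 (-1)
  simp only [n, n.symm, false_and, and_false, if_false, and_self, if_true, zero_add,
    add_zero] at P1 P2
  have hd : (g (t₁ x) = t₁ x ∧ g (t₂ x) = t₂ x) ∨ (g (t₁ x) = t₂ x ∧ g (t₂ x) = t₁ x) := by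
    by_cases c1 : α = -1 ∧ β = 1
    · have c2 : ¬ (α = 1 ∧ β = -1) := fun c => n (c1.1.symm.trans c.1)
      rw [if_neg c2, zero_add] at P2
      have c3 : α' = 1 ∧ β' = -1 := by
        by_contra c3
        rw [if_neg c3] at P2
        exact apply_ne_zero t₂ hx P2.symm
      rw [if_pos c3] at P2
      rw [if_pos c1, if_neg fun c => n (c.1.symm.trans c3.1), add_zero] at P1
      exact Or.inl ⟨P1, P2⟩
    · rw [if_neg c1, zero_add] at P1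
      have c3 : α' = -1 ∧ β' = 1 := by
        by_contra c3
        rw [if_neg c3] at P1
        exact apply_ne_zero t₁ hx P1.symm
      rw [if_pos c3] at P1
      rw [if_neg (c := α' = 1 ∧ β' = -1) fun c => n (c3.1.symm.trans c.1), add_zero] at P2
      split_ifs at P2
      · exact Or.inr ⟨P2, P1⟩
      · exact absurd P2.symm (apply_ne_zero t₂ hx)
  refine ⟨?_, hd⟩
  rw [map_add, map_add] at hY
  rcases hd with ⟨c1, c2⟩ | ⟨c1, c2⟩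
  · rw [c1, c2] at hY
    exact add_right_cancel (add_right_cancel hY)
  · rw [c1, c2, add_right_comm] at hY
    exact add_right_cancel (add_right_cancel hY)

theorem Dbl.im [Nontrivial V] (h : Dbl E w₁ t₁ w₂ t₂) (hE : Sym E) {x : V}
    (hR : Reg (sub4 E w₁ t₁ w₂ t₂) x) (hx : x ≠ 0) (h₁ : w₁ x = x) (h₂ : w₂ x = x)
    (hN : Norm E g σ) (hg : g x = x) {e f : V ≃ₗ[K] V} (he : e ∈ E) (hf : f ∈ E)
    (hef : g (e x) = f x) : ∃ i j : ℕ, Im g e (f * (w₁ ^ i * w₂ ^ j)) := by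
  obtain ⟨e', he', h3⟩ := hN.conj e he
  obtain ⟨i, j, hij⟩ := h.stab hE hR hx h₁ h₂ (e := f⁻¹ * e') (mul_mem (inv_mem hf) he') (by
    rw [LinearEquiv.mul_apply, ← hg, ← h3, hef, hg, inv_apply_self])
  exact ⟨i, j, by rwa [← hij, mul_inv_cancel_left]⟩

theorem Dbl.swap [Nontrivial V] (h : Dbl E w₁ t₁ w₂ t₂) (hE : Sym E) {x : V}
    (hR : Reg (sub4 E w₁ t₁ w₂ t₂) x) (hx : x ≠ 0) (h₁ : w₁ x = x) (h₂ : w₂ x = x)
    (hN : Norm E g σ) (hg : g x = x) (c₁ : g (t₁ x) = t₂ x) (c₂ : g (t₂ x) = t₁ x) :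
    Im g w₁ w₂ ∧ Im g w₂ w₁ := by
  obtain ⟨a, b, i1⟩ := h.im hE hR hx h₁ h₂ hN hg h.p₁.mem_b h.mt₂ c₁
  obtain ⟨c, d, i2⟩ := h.im hE hR hx h₁ h₂ hN hg h.mt₂ h.p₁.mem_b c₂
  obtain ⟨i, j, i3⟩ := h.im hE hR hx h₁ h₂ hN hg h.p₁.mem_a (one_mem E) (by rw [h₁, hg]; rfl)
  obtain ⟨k, l, i4⟩ := h.im hE hR hx h₁ h₂ hN hg h.mw₂ (one_mem E) (by rw [h₂, hg]; rfl)
  rw [one_mul] at i3 i4
  have q1 := ((h.cm_t₂ i j).mul_right (h.cm_d i j a b)).unique (hN.cm i3 i1 h.p₁.cm)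
  have q2 := ((h.cm_t₁ i j).mul_right (h.cm_d i j c d)).unique (hN.cm_one i3 i2 h.wt)
  have q3 := ((h.cm_t₂ k l).mul_right (h.cm_d k l a b)).unique (hN.cm_one i4 i1 h.tw.symm_one)
  have q4 := ((h.cm_t₁ k l).mul_right (h.cm_d k l c d)).unique (hN.cm i4 i2 h.p₂.cm)
  simp only [mul_one, map_neg, map_one] at q1 q2 q3 q4
  rw [h.p₁.pow_eq_one q2, h.p₂.pow_eq_self q1, one_mul] at i3
  rw [h.p₁.pow_eq_self q4, h.p₂.pow_eq_one q3, mul_one] at i4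
  exact ⟨i3, i4⟩

theorem Dbl.straight [Nontrivial V] (h : Dbl E w₁ t₁ w₂ t₂) (hE : Sym E) {x : V}
    (hR : Reg (sub4 E w₁ t₁ w₂ t₂) x) (hx : x ≠ 0) (h₁ : w₁ x = x) (h₂ : w₂ x = x)
    (hN : Norm E g σ) (hg : g x = x) (c₁ : g (t₁ x) = t₁ x) (c₂ : g (t₂ x) = t₂ x)
    (hB : Norm (sub4 E w₁ t₁ w₂ t₂) g σ → (∀ c, σ c = c) ∧ Cent (sub4 E w₁ t₁ w₂ t₂) g) :
    (∀ c, σ c = c) ∧ (Cent E g ∨
      (Im g w₁ w₁ ∧ Im g w₂ w₂ ∧ Im g t₁ (t₁ * w₂) ∧ Im g t₂ (t₂ * w₁))) := by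
  obtain ⟨a, b, i1⟩ := h.im hE hR hx h₁ h₂ hN hg h.p₁.mem_b h.p₁.mem_b c₁
  obtain ⟨c, d, i2⟩ := h.im hE hR hx h₁ h₂ hN hg h.mt₂ h.mt₂ c₂
  obtain ⟨i, j, i3⟩ := h.im hE hR hx h₁ h₂ hN hg h.p₁.mem_a (one_mem E) (by rw [h₁, hg]; rfl)
  obtain ⟨k, l, i4⟩ := h.im hE hR hx h₁ h₂ hN hg h.mw₂ (one_mem E) (by rw [h₂, hg]; rfl)
  rw [one_mul] at i3 i4
  have q1 := ((h.cm_t₁ i j).mul_right (h.cm_d i j a b)).unique (hN.cm i3 i1 h.p₁.cm)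
  have q2 := ((h.cm_t₂ i j).mul_right (h.cm_d i j c d)).unique (hN.cm_one i3 i2 h.wt)
  have q3 := ((h.cm_t₁ k l).mul_right (h.cm_d k l a b)).unique (hN.cm_one i4 i1 h.tw.symm_one)
  have q4 := ((h.cm_t₂ k l).mul_right (h.cm_d k l c d)).unique (hN.cm i4 i2 h.p₂.cm)
  simp only [mul_one, map_neg, map_one] at q1 q2 q3 q4
  rw [h.p₁.pow_eq_self q1, h.p₂.pow_eq_one q2, mul_one] at i3
  rw [h.p₁.pow_eq_one q3, h.p₂.pow_eq_self q4, one_mul] at i4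
  obtain ⟨hσ, hc⟩ := hB ⟨hN.semi, fun e he => by
    obtain ⟨he, m1, m2, m3, m4⟩ := mem_sub4.1 he
    obtain ⟨e', he', hee⟩ := hN.conj e he
    have n1 := hN.cm_one i3 hee m1
    have n3 := hN.cm_one i4 hee m3
    have nd : ∀ i j : ℕ, Cm 1 (w₁ ^ i * w₂ ^ j)⁻¹ e' := fun i j =>
      Cm.inv_left_one (by simpa using (n1.pow_left i).mul_left (n3.pow_left j))
    exact ⟨e', mem_sub4.2 ⟨he', n1, by
      simpa only [mul_inv_cancel_right, mul_one] using (hN.cm_one i1 hee m2).mul_left (nd a b), n3,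
      by simpa only [mul_inv_cancel_right, mul_one] using
        (hN.cm_one i2 hee m4).mul_left (nd c d)⟩, hee⟩⟩
  refine ⟨hσ, ?_⟩
  have hd : ∀ i j : ℕ, (w₁ ^ i * w₂ ^ j) x = x := fun i j => by
    rw [LinearEquiv.mul_apply, fix_pow h₂, fix_pow h₁]
  have r1 : (-1 : K) ^ a = 1 := by
    obtain ⟨τ, hτ⟩ := h.p₁.pb
    have e1 : t₁ (t₁ x) = τ • x := hτ x
    have e2 := i1 (t₁ x)
    rw [e1, hN.semi, hσ, hg, c₁, LinearEquiv.mul_apply, (h.cm_t₁ a b).eig_one (hd a b), map_smul,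
      e1] at e2
    exact eq_one_of_smul_eq (smul_ne_zero hτ.ne_zero hx) e2.symm
  have r2 : (-1 : K) ^ d = 1 := by
    obtain ⟨τ, hτ⟩ := h.p₂.pb
    have e1 : t₂ (t₂ x) = τ • x := hτ x
    have e2 := i2 (t₂ x)
    rw [e1, hN.semi, hσ, hg, c₂, LinearEquiv.mul_apply, (h.cm_t₂ c d).eig_one (hd c d), map_smul,
      e1] at e2
    exact eq_one_of_smul_eq (smul_ne_zero hτ.ne_zero hx) e2.symm
  have r3 : (-1 : K) ^ b = (-1) ^ c := by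
    have e1 := i1 (t₂ x)
    have e2 := i2 (t₁ x)
    rw [c₂, LinearEquiv.mul_apply, (h.cm_t₂ a b).eig_one (hd a b), map_smul] at e1
    rw [c₁, LinearEquiv.mul_apply, (h.cm_t₁ c d).eig_one (hd c d), map_smul, ← h.tt.apply,
      e1] at e2
    exact smul_cancel (apply_ne_zero t₁ (apply_ne_zero t₂ hx)) e2
  rw [h.p₁.pow_eq_one r1, one_mul] at i1
  rw [h.p₂.pow_eq_one r2, mul_one] at i2
  rcases neg_one_pow_eq_or K b with r4 | r4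
  · rw [h.p₂.pow_eq_one r4, mul_one] at i1
    rw [h.p₁.pow_eq_one (r3.symm.trans r4), mul_one] at i2
    exact Or.inl (h.p₁.cent hE i3 i1 (h.p₂.cent (h.p₁.sym hE) i4 i2 hc))
  · rw [h.p₂.pow_eq_self r4] at i1
    rw [h.p₁.pow_eq_self (r3.symm.trans r4)] at i2
    exact Or.inr ⟨i3, i4, i1, i2⟩

theorem Dbl.goodS [Finite K] [Finite V] [Nontrivial V] (h : Dbl E w₁ t₁ w₂ t₂) (hE : Sym E)
    {U : Submodule K V} (hU : Inv E U) {x y z : V} (hxU : x ∈ fixU (fixU U w₁) w₂)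
    (hyU : y ∈ fixU (fixU U w₁) w₂) (hx : x ≠ 0) (hy : y ≠ 0) (hR : Reg (sub4 E w₁ t₁ w₂ t₂) x)
    (hB : IsBase Φ (sub4 E w₁ t₁ w₂ t₂) x y z)
    (hs : ∀ g σ, Φ g → Norm E g σ → g z = z → Im g w₁ w₂ → Im g w₂ w₁ → False)
    (hs' : ∀ g σ, Φ g → Norm E g σ → g x = x → g z = z → Im g w₁ w₁ → Im g w₂ w₂ →
      Im g t₁ (t₁ * w₂) → Im g t₂ (t₂ * w₁) → False) : GoodS Φ E U z := by
  obtain ⟨⟨hxU, h₁⟩, h₂⟩ := hxU
  obtain ⟨⟨hyU, k₁⟩, k₂⟩ := hyU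
  have h1 := h.reg hE hR hx h₁ h₂ hy k₁ k₂
  refine ⟨_, U.add_mem (U.add_mem hyU (hU t₁ h.p₁.mem_b x hxU)) (hU t₂ h.mt₂ x hxU), x, hxU,
    h1.ne_zero h.p₁.toWPair, hx, h1, fun g σ hΦ hN hY hg hz => ?_, h.sep hE hx h₁ h₂ k₁ k₂⟩
  obtain ⟨h2, ⟨c₁, c₂⟩ | ⟨c₁, c₂⟩⟩ := h.split hE hR hx h₁ h₂ k₁ k₂ hN hg hY
  · obtain ⟨h3, h4 | h4⟩ := h.straight hE hR hx h₁ h₂ hN hg c₁ c₂ fun h => hB g σ hΦ h hg h2 hz
    · exact ⟨h3, h4⟩
    · exact (hs' g σ hΦ hN hg hz h4.1 h4.2.1 h4.2.2.1 h4.2.2.2).elim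
  · obtain ⟨h3, h4⟩ := h.swap hE hR hx h₁ h₂ hN hg c₁ c₂
    exact (hs g σ hΦ hN hz h3 h4).elim

theorem Dbl.goodS_three [Finite K] [Finite V] [Nontrivial V] (h : Dbl E w₁ t₁ w₂ t₂) (hE : Sym E)
    {U : Submodule K V} (hU : Inv E U) (h0 : U ≠ ⊥) (hA : Aniso (sub4 E w₁ t₁ w₂ t₂)) :
    ∃ z, GoodS Φ E U z := by
  obtain ⟨x, hxU, y, hyU, hx, hy, hR, hB⟩ := hA.good (h.p₂.sym (h.p₁.sym hE))
    ((hU.sub w₁ t₁).sub w₂ t₂) (h.p₂.fixU_ne (hU.sub w₁ t₁) (h.p₁.fixU_ne hU h0)) Φ 0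
  have h₁ : w₁ x = x := hxU.1.2
  have h₂ : w₂ x = x := hxU.2
  obtain ⟨e1, e2, e3, e4⟩ := h.eig h₁ h₂
  have n := h.p₁.ne_one
  have two : ∀ v : V, v ≠ 0 → -v ≠ v := fun v hv h =>
    n (eq_one_of_smul_eq hv ((neg_one_smul K v).trans h))
  refine ⟨t₁ x + t₁ (t₂ x), h.goodS hE hU hxU hyU hx hy hR (hB.mono (fun _ h => h) _)
    (fun g σ _ hN hz i1 _ => ?_) fun g σ _ hN hg hz _ _ i3 i4 => ?_⟩
  · have q := i1 (t₁ x + t₁ (t₂ x))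
    rw [hz, map_add, e1, h.p₁.cm.eig e3, map_add w₂, e2, h.tw.symm_one.eig e4] at q
    simp only [mul_one, one_mul, neg_smul, one_smul] at q
    rw [← neg_add, map_neg, hz, neg_add] at q
    exact two _ (apply_ne_zero t₁ hx) (add_right_cancel q)
  · rw [map_add, i3, i3, i4, hg] at hz
    simp only [LinearEquiv.mul_apply, h₁, h₂, e4, neg_smul, one_smul, map_neg] at hz
    exact two _ (apply_ne_zero t₁ (apply_ne_zero t₂ hx)) (add_left_cancel hz)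

theorem Sym.tri [Finite K] [Finite V] [Nontrivial V] (h4 : ∀ s : K, s ≠ 0 → s ^ 4 = 1)
    {P : V → Prop} (hE : Sym E)
    (hd : ∀ E' ≤ E, Sym E' → ∀ (w₁ t₁ w₂ t₂ : V ≃ₗ[K] V) (U : Submodule K V), Dbl E' w₁ t₁ w₂ t₂ →
      Inv E' U → U ≠ ⊥ → Aniso (sub4 E' w₁ t₁ w₂ t₂) → ∃ z, P z ∧ GoodS Φ E' U z)
    {U : Submodule K V} (hU : Inv E U) (h0 : U ≠ ⊥) :
    Aniso E ∨ (∃ w t, Pair E 2 (-1) w t ∧ Aniso (sub E w t)) ∨ ∃ z, P z ∧ GoodS Φ E U z := by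
  have := finite_equiv (K := K) (V := V)
  induction E using WellFoundedLT.induction generalizing U with
  | ind E ih =>
    refine or_iff_not_imp_left.2 fun hA => ?_
    simp only [Aniso, not_forall, not_not] at hA
    obtain ⟨r, ζ, w, t, hp⟩ := hA
    obtain rfl : r = 2 := (Nat.prime_dvd_prime_iff_eq hp.prime Nat.prime_two).1
      (hp.prime.dvd_of_dvd_pow (n := 2) ((hp.prim.pow_eq_one_iff_dvd 4).1 (h4 ζ hp.ne_zero)))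
    obtain rfl := hp.eq_neg_one
    rcases ih _ hp.sub_lt (hp.sym hE) (fun E' h => hd E' (h.trans (sub_le _ _ _))) (hU.sub w t)
      (hp.fixU_ne hU h0) with h | ⟨w', t', h1, h2⟩ | ⟨z, h1, h2⟩
    · exact Or.inl ⟨w, t, hp, h⟩
    · exact Or.inr (hd E le_rfl hE w t w' t' U ⟨hp, h1⟩ hU h0 h2)
    · exact Or.inr ⟨z, h1, hp.step_two_sep hE hU h2⟩

theorem Pair.base_of_aniso [Finite K] [Finite V] [Nontrivial V] (hp : Pair E 2 ζ w t) (hE : Sym E)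
    (hA : Aniso (sub E w t)) (Φ : (V ≃+ V) → Prop) :
    ∃ x y : V, y ≠ 0 ∧ IsBase Φ E x y 0 := by
  have hU : Inv E ⊤ := fun _ _ _ _ => trivial
  obtain ⟨x, hxU, y, hyU, hx, -, hR, hB⟩ := hA.good (hp.sym hE) (hU.sub w t)
    (hp.fixU_ne hU top_ne_bot) Φ 0
  exact ⟨_, x, hx, hp.two_base hE hR hx hxU.2 hyU.2 one_ne_zero hB⟩

end CfsgLib.Base
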