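import Mathlib
import Cfsg.Agent.Lib.Base.Dbl

/-!
The double step over the field with five elements, by an explicit model in dimension four.
-/

set_option autoImplicit false

namespace CfsgLib.Base

/-- Coordinates. -/
abbrev M5 := ZMod 5 × ZMod 5 × ZMod 5 × ZMod 5

/-- Parameters of group elements. -/
abbrev P5 := ZMod 5 × Bool × Bool × Bool × Bool

def mW₁ (b : Bool) (m : M5) : M5 := cond b (m.1, -m.2.1, m.2.2.1, -m.2.2.2) m
def mW₂ (b : Bool) (m : M5) : M5 := cond b (m.1, m.2.1, -m.2.2.1, -m.2.2.2) m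
def mT₁ (b : Bool) (m : M5) : M5 := cond b (m.2.1, m.1, m.2.2.2, m.2.2.1) m
def mT₂ (b : Bool) (m : M5) : M5 := cond b (m.2.2.1, m.2.2.2, m.1, m.2.1) m
def mS (c : ZMod 5) (m : M5) : M5 := (c * m.1, c * m.2.1, c * m.2.2.1, c * m.2.2.2)
def mA (m n : M5) : M5 := (m.1 + n.1, m.2.1 + n.2.1, m.2.2.1 + n.2.2.1, m.2.2.2 + n.2.2.2)

def act5 (p : P5) (m : M5) : M5 :=
  mS p.1 (mW₁ p.2.1 (mT₁ p.2.2.1 (mW₂ p.2.2.2.1 (mT₂ p.2.2.2.2 m))))

theorem five_reg : ∀ p : P5, act5 p (0, 1, 1, 1) = (0, 1, 1, 1) →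
    p = (1, false, false, false, false) := by decide +kernel

theorem five_sep : ∀ p : P5, act5 p (3, 1, 2, 3) ≠ (0, 1, 1, 1) := by decide +kernel

set_option synthInstance.maxSize 2000 in
theorem five_base : ∀ p q : P5, mA (act5 p (0, 1, 1, 1)) (mS 2 (act5 q (0, 1, 1, 1))) =
      (3, 1, 2, 3) → act5 p (act5 p (0, 1, 1, 1)) = (0, 1, 1, 1) →
    act5 q (act5 q (0, 1, 1, 1)) = (0, 1, 1, 1) →
    act5 p (act5 q (0, 1, 1, 1)) = act5 q (act5 p (0, 1, 1, 1)) →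
    p = (1, false, false, false, true) ∧ q = (1, false, true, false, false) := by
  decide +kernel

variable {K V : Type*} [Field K] [AddCommGroup V] [Module K V]
variable {E : Subgroup (V ≃ₗ[K] V)} {w₁ t₁ w₂ t₂ : V ≃ₗ[K] V} {Φ : (V ≃+ V) → Prop}

theorem pow_eq_cond {G : Type*} [Monoid G] {a : G} (h : a ^ 2 = 1) (i : ℕ) :
    ∃ b : Bool, a ^ i = cond b a 1 := by
  rcases Nat.even_or_odd' i with ⟨k, rfl | rfl⟩
  · exact ⟨false, by rw [pow_mul, h, one_pow]; rfl⟩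
  · exact ⟨true, by rw [pow_succ, pow_mul, h, one_pow, one_mul]; rfl⟩

theorem Dbl.goodS_five [Finite K] [Finite V] [Nontrivial V] (hK : Nat.card K = 5)
    (h : Dbl E w₁ t₁ w₂ t₂) (hE : Sym E) (o₁ : t₁ ^ 2 = 1) (o₂ : t₂ ^ 2 = 1)
    {U : Submodule K V} (hU : Inv E U) (h0 : U ≠ ⊥)
    (hs : ∀ e ∈ sub4 E w₁ t₁ w₂ t₂, ∃ c : K, IsSc c e) : GoodS Φ E U 0 := by
  have := Fintype.ofFinite K
  let φ : ZMod 5 ≃+* K := ZMod.ringEquivOfPrime K Nat.prime_five (by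
    rw [← Nat.card_eq_fintype_card, hK])
  obtain ⟨v, ⟨⟨hvU, h₁⟩, h₂⟩, hv⟩ := (Submodule.ne_bot_iff _).1
    (h.p₂.fixU_ne (hU.sub w₁ t₁) (h.p₁.fixU_ne hU h0))
  have h₁ : w₁ v = v := h₁
  have h₂ : w₂ v = v := h₂
  obtain ⟨e1, e2, e3, e4⟩ := h.eig h₁ h₂
  have e5 : w₁ (t₁ (t₂ v)) = (-1 : K) • t₁ (t₂ v) := by simpa using h.p₁.cm.eig e3
  have e6 : w₂ (t₁ (t₂ v)) = (-1 : K) • t₁ (t₂ v) := by simpa using h.tw.symm_one.eig e4
  have f1 : ∀ u, t₁ (t₁ u) = u := fun u => LinearEquiv.congr_fun o₁ u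
  have f2 : ∀ u, t₂ (t₂ u) = u := fun u => LinearEquiv.congr_fun o₂ u
  have f3 : ∀ u, t₂ (t₁ u) = t₁ (t₂ u) := fun u => (h.tt.apply u).symm
  let ι : M5 → V := fun m =>
    φ m.1 • v + φ m.2.1 • t₁ v + φ m.2.2.1 • t₂ v + φ m.2.2.2 • t₁ (t₂ v)
  have ιU : ∀ m, ι m ∈ U := fun m => U.add_mem (U.add_mem (U.add_mem (U.smul_mem _ hvU)
    (U.smul_mem _ (hU _ h.p₁.mem_b _ hvU))) (U.smul_mem _ (hU _ h.mt₂ _ hvU)))
    (U.smul_mem _ (hU _ h.p₁.mem_b _ (hU _ h.mt₂ _ hvU)))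
  have ιW₁ : ∀ b m, (cond b w₁ 1 : V ≃ₗ[K] V) (ι m) = ι (mW₁ b m) := fun b m => by
    cases b
    · rfl
    · simp only [ι, mW₁, cond_true, map_add, map_smul, h₁, e1, e3, e5, map_neg]
      module
  have ιW₂ : ∀ b m, (cond b w₂ 1 : V ≃ₗ[K] V) (ι m) = ι (mW₂ b m) := fun b m => by
    cases b
    · rfl
    · simp only [ι, mW₂, cond_true, map_add, map_smul, h₂, e2, e4, e6, map_neg]
      module
  have ιT₁ : ∀ b m, (cond b t₁ 1 : V ≃ₗ[K] V) (ι m) = ι (mT₁ b m) := fun b m => by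
    cases b
    · rfl
    · simp only [ι, mT₁, cond_true, map_add, map_smul, f1]
      module
  have ιT₂ : ∀ b m, (cond b t₂ 1 : V ≃ₗ[K] V) (ι m) = ι (mT₂ b m) := fun b m => by
    cases b
    · rfl
    · simp only [ι, mT₂, cond_true, map_add, map_smul, f2, f3]
      module
  have ιS : ∀ c m, φ c • ι m = ι (mS c m) := fun c m => by
    simp only [ι, mS, map_mul]
    module
  have ιA : ∀ m n, ι m + ι n = ι (mA m n) := fun m n => by
    simp only [ι, mA, map_add]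
    module
  have ιinj : Function.Injective ι := fun m n hmn => by
    have n1 := h.p₁.ne_one
    have sm : ∀ {w : V ≃ₗ[K] V} {l : K} {u : V} (c : K), w u = l • u → w (c • u) = l • c • u :=
      fun c h => by rw [map_smul, h, smul_comm]
    have P := fun m₁ m₂ => congrArg (fun v => pr w₂ m₂ (pr w₁ m₁ v)) hmn
    simp only [ι, map_add, pr_pr (sm _ (one_eig h₁)) (sm _ (one_eig h₂)),
      pr_pr (sm _ e1) (sm _ e2), pr_pr (sm _ e3) (sm _ e4), pr_pr (sm _ e5) (sm _ e6)] at P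
    have P1 := P 1 1
    have P2 := P (-1) 1
    have P3 := P 1 (-1)
    have P4 := P (-1) (-1)
    simp only [n1, n1.symm, false_and, and_false, if_false, and_self, if_true, zero_add,
      add_zero] at P1 P2 P3 P4
    exact Prod.ext (φ.injective (smul_cancel hv P1)) (Prod.ext
      (φ.injective (smul_cancel (apply_ne_zero t₁ hv) P2)) (Prod.ext
      (φ.injective (smul_cancel (apply_ne_zero t₂ hv) P3))
      (φ.injective (smul_cancel (apply_ne_zero t₁ (apply_ne_zero t₂ hv)) P4))))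
  let el : P5 → V → V := fun p u => φ p.1 • (cond p.2.1 w₁ 1 : V ≃ₗ[K] V)
    ((cond p.2.2.1 t₁ 1 : V ≃ₗ[K] V) ((cond p.2.2.2.1 w₂ 1 : V ≃ₗ[K] V)
      ((cond p.2.2.2.2 t₂ 1 : V ≃ₗ[K] V) u)))
  have elι : ∀ p m, el p (ι m) = ι (act5 p m) := fun p m => by
    simp only [el, ιT₂, ιW₂, ιT₁, ιW₁, ιS, act5]
  have rep : ∀ e ∈ E, ∃ p, ∀ u, e u = el p u := fun e he => by
    obtain ⟨i, j, -, e', he', rfl⟩ := h.p₁.decomp hE he
    obtain ⟨k, l, -, e'', he'', rfl⟩ := h.p₂.decomp (h.p₁.sym hE) he'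
    obtain ⟨c, hc⟩ := hs e'' he''
    obtain ⟨c, rfl⟩ := φ.surjective c
    obtain ⟨i, hi⟩ := pow_eq_cond h.p₁.one i
    obtain ⟨j, hj⟩ := pow_eq_cond o₁ j
    obtain ⟨k, hk⟩ := pow_eq_cond h.p₂.one k
    obtain ⟨l, hl⟩ := pow_eq_cond o₂ l
    refine ⟨(c, i, j, k, l), fun u => ?_⟩
    simp only [el, LinearEquiv.mul_apply, hi, hj, hk, hl, hc u, map_smul]
  have ι0 : ι (0, 0, 0, 0) = 0 := by simp [ι]
  have hR : Reg E (ι (0, 1, 1, 1)) := fun e he hx => by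
    obtain ⟨p, hp⟩ := rep e he
    rw [hp, elι] at hx
    obtain rfl := five_reg p (ιinj hx)
    exact LinearEquiv.ext fun u => by simp [hp, el]
  refine ⟨ι (0, 1, 1, 1), ιU _, ι (3, 1, 2, 3), ιU _, fun h => ?_, fun h => ?_, hR,
    fun g σ _ hN hx hy _ => ?_, fun e he hx => ?_⟩
  · exact absurd (ιinj (h.trans ι0.symm)) (by decide)
  · exact absurd (ιinj (h.trans ι0.symm)) (by decide)
  · have hσ : ∀ c, σ c = c := fun c => by
      obtain ⟨c, rfl⟩ := φ.surjective c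
      exact RingHom.congr_fun (RingHom.ext_zmod (σ.comp φ) φ) c
    obtain ⟨a, ha, haa⟩ := hN.conj t₂ h.mt₂
    obtain ⟨b, hb, hbb⟩ := hN.conj t₁ h.p₁.mem_b
    obtain ⟨p, hp⟩ := rep a ha
    obtain ⟨q, hq⟩ := rep b hb
    have y1 : ι (3, 1, 2, 3) = t₂ (ι (0, 1, 1, 1)) + φ 2 • t₁ (ι (0, 1, 1, 1)) := by
      rw [show t₂ (ι _) = _ from ιT₂ true _, show t₁ (ι _) = _ from ιT₁ true _, ιS, ιA]
      rfl
    obtain ⟨rfl, rfl⟩ := five_base p q (ιinj (by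
      rw [← ιA, ← ιS, ← elι, ← elι, ← hp, ← hq, ← hy, y1, map_add g, hN.semi, hσ, haa, hbb, hx]))
      (ιinj (by rw [← elι, ← elι, ← hp, ← hp, ← hx, ← haa, ← haa, f2]))
      (ιinj (by rw [← elι, ← elι, ← hq, ← hq, ← hx, ← hbb, ← hbb, f1]))
      (ιinj (by
        rw [← elι, ← elι, ← elι, ← elι, ← hp, ← hq, ← hp, ← hq, ← hx, ← haa, ← hbb, ← haa, ← hbb,
          f3]))
    obtain rfl : a = t₂ := LinearEquiv.ext fun u => by simp [hp, el]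
    obtain rfl : b = t₁ := LinearEquiv.ext fun u => by simp [hq, el]
    have v1 : v = φ 2 • (ι (0, 1, 1, 1) + b (ι (0, 1, 1, 1)) + a (ι (0, 1, 1, 1)) +
        b (a (ι (0, 1, 1, 1)))) + φ 4 • ι (0, 1, 1, 1) := by
      rw [show a (ι _) = _ from ιT₂ true _, show b (ι _) = _ from ιT₁ true _,
        show b (ι _) = _ from ιT₁ true _, ιA, ιA, ιA, ιS, ιS, ιA]
      change v = ι (1, 0, 0, 0)
      simp [ι]
    have gv : g v = v := by
      rw [v1]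
      simp only [map_add g, hN.semi, hσ, haa _, hbb _, hx]
    have gι : ∀ m, g (ι m) = ι m := fun m => by
      simp only [ι, map_add, hN.semi, hσ, haa _, hbb _, gv]
    refine ⟨hσ, fun e he => ?_⟩
    obtain ⟨e', he', hee⟩ := hN.conj e he
    obtain ⟨p, hp⟩ := rep e he
    obtain rfl : e' = e := hR.eq he' he (by rw [← hx, ← hee, hx, hp, elι, gι])
    exact hee
  · obtain ⟨p, hp⟩ := rep e he
    rw [hp, elι] at hx
    exact five_sep p (ιinj hx)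

theorem Sym.five [Finite K] [Finite V] [Nontrivial V] (hK : Nat.card K = 5) (hE : Sym E)
    (hsq : ∀ e ∈ E, ∀ c : K, IsSc c (e ^ 2) → IsSquare c) (Φ : (V ≃+ V) → Prop) :
    ∃ x y : V, y ≠ 0 ∧ IsBase Φ E x y 0 := by
  have := Fintype.ofFinite K
  have h4 : ∀ s : K, s ≠ 0 → s ^ 4 = 1 := fun s hs => by
    have := FiniteField.pow_card_sub_one_eq_one s hs
    rwa [← Nat.card_eq_fintype_card, hK] at this
  have hm : IsSquare (-1 : K) := FiniteField.isSquare_neg_one_iff.2 (by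
    rw [← Nat.card_eq_fintype_card, hK]; norm_num)
  have hU : Inv E ⊤ := fun _ _ _ _ => trivial
  have key : ∀ {E' : Subgroup (V ≃ₗ[K] V)} {w t : V ≃ₗ[K] V}, E' ≤ E → Pair E' 2 (-1) w t →
      ∃ β : K, IsSc (β ^ 2) (t ^ 2) ∨ IsSc (-β ^ 2) (t ^ 2) := fun hle hp => by
    obtain ⟨c, hc⟩ := hp.pb
    obtain ⟨β, rfl⟩ := hsq _ (hle hp.mem_b) c hc
    exact ⟨β, Or.inl (by rwa [pow_two β])⟩
  rcases hE.tri (Φ := Φ) (P := fun z => z = 0) h4 (fun E' hle hE' w₁ t₁ w₂ t₂ U h hU h0 hA => by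
    obtain ⟨t₁', p1, o1, q1⟩ := h.p₁.norm_t hE' (key hle h.p₁)
    obtain ⟨t₂', p2, o2, q2⟩ := h.p₂.norm_t (h.p₁.sym hE') (key ((sub_le _ _ _).trans hle) h.p₂)
    refine ⟨0, rfl, Dbl.goodS_five hK ⟨p1, q1 ▸ p2⟩ hE' o1 o2 hU h0 ?_⟩
    rw [sub4, q1, q2]
    exact (hA.cases (h.p₂.sym (h.p₁.sym hE'))).resolve_right fun h => h.1 hm) hU top_ne_bot
    with h | ⟨w, t, hp, h⟩ | ⟨_, rfl, h⟩
  · obtain ⟨x, -, y, -, -, hy, -, hB⟩ := h.good hE hU top_ne_bot Φ 0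
    exact ⟨x, y, hy, hB⟩
  · exact hp.base_of_aniso hE h Φ
  · obtain ⟨x, -, y, -, -, hy, -, hB, -⟩ := h
    exact ⟨x, y, hy, hB⟩

end CfsgLib.Base
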