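import Mathlib
import Cfsg.Agent.Lib.Base.Five

/-!
The field with three elements: bases of size two for groups of order prime to three, and the
final statements on normalizers of groups of symplectic type.
-/

set_option autoImplicit false

namespace CfsgLib.Base

variable {K V : Type*} [Field K] [AddCommGroup V] [Module K V]
variable {E : Subgroup (V ≃ₗ[K] V)} {a b w t w₁ t₁ w₂ t₂ : V ≃ₗ[K] V} {Φ : (V ≃+ V) → Prop}
variable {g : V ≃+ V} {σ : K →+* K}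

theorem Im.comp {g h : V ≃+ V} {e e' e'' : V ≃ₗ[K] V} (h1 : Im g e' e'') (h2 : Im h e e') :
    Im (h.trans g) e e'' := fun v => by
  rw [AddEquiv.trans_apply, AddEquiv.trans_apply, h2, h1]

/-- A class of maps closed under composition, without conjugation cycles of length three. -/
structure NoThree (K : Type*) [Field K] [Module K V] (Φ : (V ≃+ V) → Prop) : Prop where
  mul : ∀ {g h}, Φ g → Φ h → Φ (h.trans g)
  cyc : ∀ {g}, Φ g → ∀ {e e' e'' : V ≃ₗ[K] V}, Im g e e' → Im g e' e'' → Im g e'' e → e' = e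

theorem Dbl.three₁ [Finite K] [Finite V] [Nontrivial V] (h3 : NoThree K Φ)
    (h : Dbl E w₁ t₁ w₂ t₂) (hE : Sym E) (hA : Aniso (sub4 E w₁ t₁ w₂ t₂))
    (hS : ∀ g, Φ g → Im g w₂ w₂ → Im g t₁ (t₁ * w₂) → False) :
    ∃ x y : V, y ≠ 0 ∧ IsBase Φ E x y 0 := by
  have hU : Inv E ⊤ := fun _ _ _ _ => trivial
  have key : ∀ {w₁ t₁ w₂ t₂ : V ≃ₗ[K] V}, Dbl E w₁ t₁ w₂ t₂ → Aniso (sub4 E w₁ t₁ w₂ t₂) →
      (∀ g, Φ g → Im g w₁ w₂ → Im g w₂ w₁ → False) → (∀ g, Φ g → Im g w₁ w₁ → Im g w₂ w₂ →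
        Im g t₁ (t₁ * w₂) → Im g t₂ (t₂ * w₁) → False) →
      ∃ x y : V, y ≠ 0 ∧ IsBase Φ E x y 0 := fun {w₁ t₁ w₂ t₂} h hA h1 h2 => by
    obtain ⟨x, hxU, y, hyU, hx, hy, hR, hB⟩ := hA.good (h.p₂.sym (h.p₁.sym hE))
      ((hU.sub w₁ t₁).sub w₂ t₂) (h.p₂.fixU_ne (hU.sub w₁ t₁) (h.p₁.fixU_ne hU top_ne_bot))
      Φ 0
    obtain ⟨x, -, y, -, -, hy, -, hB, -⟩ := h.goodS hE hU hxU hyU hx hy hR hB
      (fun g _ hg _ _ => h1 g hg) fun g _ hg _ _ _ => h2 g hg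
    exact ⟨x, y, hy, hB⟩
  by_cases hs : ∀ g, Φ g → Im g w₁ w₂ → Im g w₂ w₁ → False
  · exact key h hA hs fun g hg _ h1 h2 _ => hS g hg h1 h2
  push Not at hs
  obtain ⟨g₀, hg₀, i1, i2, -⟩ := hs
  have ww := cm_one_iff.1 h.ww
  have w2 : w₂ * w₂ = 1 := by rw [← pow_two, h.p₂.one]
  obtain ⟨τ₁, s₁⟩ := h.p₁.pb
  obtain ⟨τ₂, s₂⟩ := h.p₂.pb
  refine key (w₁ := w₂) (t₁ := t₁ * t₂) (w₂ := w₁ * w₂) (t₂ := t₁) (Dbl.of h.p₁.ne_one h.mw₂
    (mul_mem h.p₁.mem_b h.mt₂) (mul_mem h.p₁.mem_a h.mw₂) h.p₁.mem_b h.p₂.one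
    (by rw [Commute.mul_pow ww, h.p₁.one, h.p₂.one, one_mul])
    ⟨_, isSc_mul_sq h.tt.symm_one s₁ s₂⟩ ⟨_, s₁⟩
    (by simpa using h.tw.symm_one.mul_right h.p₂.cm)
    (by simpa using h.p₁.cm.mul_left h.tw.symm_one)
    (by simpa using h.ww.symm_one.mul_right (cm_self w₂))
    (by simpa using ((h.p₁.cm.symm.mul_left h.wt.symm_one).mul_right
      (h.tw.mul_left h.p₂.cm.symm)))
    h.tw.symm_one (by simpa using (cm_self t₁).mul_left h.tt.symm_one)) ?_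
    (fun g hg j1 j2 => ?_) fun g hg j1 _ _ j2 => hS g hg j1 j2
  · convert hA using 1
    ext e
    rw [mem_sub4, mem_sub4]
    refine and_congr_right fun _ => ⟨fun ⟨c1, c2, c3, c4⟩ => ⟨?_, c4, c1, ?_⟩,
      fun ⟨c1, c2, c3, c4⟩ => ⟨c3, by simpa using c2.mul_left c4, by simpa using c1.mul_left c3,
        c2⟩⟩
    · simpa using c3.mul_left c1.inv_left_one
    · simpa using c4.inv_left_one.mul_left c2
  · have j3 : Im g w₁ w₁ := by
      have := j2.mul j1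
      rwa [mul_assoc, w2, mul_one, ← mul_assoc, ← ww, mul_assoc, w2, mul_one] at this
    have j4 : Im g₀ (w₁ * w₂) (w₁ * w₂) := by
      have := i1.mul i2
      rwa [← ww] at this
    have := h3.cyc (h3.mul hg₀ hg) (i1.comp j3) (j4.comp j1) (i2.comp j2)
    exact h.p₁.ne_one (h.p₁.cm.unique (this ▸ h.tw.symm_one))

theorem Dbl.three [Finite K] [Finite V] [Nontrivial V] (hK : ∀ c : K, c ≠ 0 → c = 1 ∨ c = -1)
    (h3 : NoThree K Φ) (h : Dbl E w₁ t₁ w₂ t₂) (hE : Sym E)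
    (hA : Aniso (sub4 E w₁ t₁ w₂ t₂)) : ∃ x y : V, y ≠ 0 ∧ IsBase Φ E x y 0 := by
  have key : ∀ {E' : Subgroup (V ≃ₗ[K] V)} {w t : V ≃ₗ[K] V}, Pair E' 2 (-1) w t →
      ∃ β : K, IsSc (β ^ 2) (t ^ 2) ∨ IsSc (-β ^ 2) (t ^ 2) := fun hp => by
    obtain ⟨c, hc⟩ := hp.pb
    rcases hK c hc.ne_zero with rfl | rfl
    · exact ⟨1, Or.inl (by rwa [one_pow])⟩
    · exact ⟨1, Or.inr (by rwa [one_pow])⟩
  obtain ⟨t₁, p1, o1, q1⟩ := h.p₁.norm_t hE (key h.p₁)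
  obtain ⟨t₂, p2, o2, q2⟩ := h.p₂.norm_t (h.p₁.sym hE) (key h.p₂)
  rw [sub4, ← q2, ← q1] at hA
  replace h : Dbl E w₁ t₁ w₂ t₂ := ⟨p1, q1 ▸ p2⟩
  by_cases hS : ∀ g, Φ g → Im g w₂ w₂ → Im g t₁ (t₁ * w₂) → False
  · exact h.three₁ h3 hE hA hS
  push Not at hS
  obtain ⟨g₀, hg₀, i1, i2, -⟩ := hS
  have tw := cm_one_iff.1 h.tw
  have w2 : w₂ * w₂ = 1 := by rw [← pow_two, h.p₂.one]
  have t2 : t₁ * t₁ = 1 := by rw [← pow_two, o1]
  refine Dbl.three₁ h3 (w₁ := t₂) (t₁ := w₂) (w₂ := t₁) (t₂ := w₁) (Dbl.of h.p₁.ne_one h.mt₂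
    h.mw₂ h.p₁.mem_b h.p₁.mem_a o2 o1 h.p₂.pa h.p₁.pa (by simpa using h.p₂.cm.symm)
    (by simpa using h.p₁.cm.symm) h.tt.symm_one h.tw.symm_one h.wt.symm_one h.ww.symm_one) hE ?_
    fun g hg j1 j2 => ?_
  · convert hA using 1
    ext e
    rw [mem_sub4, mem_sub4]
    tauto
  · have j3 : Im g₀ (w₂ * t₁) t₁ := by
      have := i1.mul i2
      rwa [tw, ← mul_assoc, w2, one_mul] at this
    have j4 : Im g (t₁ * w₂) w₂ := by
      have := j1.mul j2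
      rwa [← tw, ← mul_assoc, t2, one_mul] at this
    have := h3.cyc (h3.mul hg₀ hg) (j3.comp j2) (i2.comp j1) (i1.comp j4)
    exact h.p₁.ne_one (h.p₁.cm.unique (this ▸ h.ww))

theorem ringHom_eq_three (hK : ∀ c : K, c ≠ 0 → c = 1 ∨ c = -1) (σ : K →+* K) (c : K) :
    σ c = c := by
  by_cases hc : c = 0
  · rw [hc, map_zero]
  · rcases hK c hc with rfl | rfl <;> simp

theorem Pair.three_step [Finite K] [Nontrivial V] (hK : ∀ c : K, c ≠ 0 → c = 1 ∨ c = -1)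
    (hp : Pair E 2 (-1) w t) (hE : Sym E) {x y : V} (hR : Reg (sub E w t) x) (hx : x ≠ 0)
    (hw : w x = x) (hy : w y = y)
    (H : ∀ (g : V ≃+ V) (σ : K →+* K), Φ g → Norm E g σ → g x = x → g y = y → Im g w w → Im g t t →
      (∀ e ∈ E, g (e x) = e x → Im g e e) → ∃ e ∈ E, ∀ v, g v = e v) :
    IsBase Φ E (y + t x) x 0 := fun g σ hΦ hN hY hg _ => by
  have hσ := ringHom_eq_three hK σ
  obtain ⟨τ, hτ⟩ := hp.pb
  have hτ' : ∀ v, t (t v) = τ • v := fun v => hτ v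
  obtain ⟨h1, h2⟩ := hp.split hE hR hx hw hN hg hy (hp.eig_t hw) hY
  obtain ⟨a, ha, i1⟩ := hp.norm_w hE hR hx hw hN hg
  rw [hp.pow_eq_self (Odd.neg_one_pow (Nat.coprime_two_right.1 ha))] at i1
  obtain ⟨t', i2, i, hi⟩ := hp.im_t hE hR hx hw hN hg (k := 1) (c := 1) (by simpa using h2)
  simp only [one_smul, pow_one] at hi
  have h3 := i2 (t x)
  rw [hτ', hN.semi, hσ, hg, h2, hi, eig_pow (hp.eig_t hw), map_smul, hτ'] at h3
  obtain rfl : t' = t := LinearEquiv.ext fun v => by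
    rw [hi, hp.pow_eq_one (eq_one_of_smul_eq (smul_ne_zero hτ.ne_zero hx) h3.symm)]; rfl
  obtain ⟨e, he, hge⟩ := H g σ hΦ hN hg h1 i1 i2 fun e he h => by
    obtain ⟨e', he', hee⟩ := hN.conj e he
    obtain ⟨j, hj⟩ := hp.stab hE hR hx hw (e := e⁻¹ * e') (c := 1) (mul_mem (inv_mem he) he') (by
      rw [LinearEquiv.mul_apply, ← hg, ← hee, h, hg, inv_apply_self, one_smul])
    have h4 : e' = e * w ^ j := LinearEquiv.ext fun v => by
      rw [LinearEquiv.mul_apply, ← one_smul K ((w ^ j) v), ← hj, LinearEquiv.mul_apply,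
        apply_inv_self]
    obtain ⟨β, hβ⟩ := hE.comm e he t' hp.mem_b
    have h5 := (hN.cm hee i2 hβ).unique (h4 ▸ hβ.mul_left (hp.cm.pow_left j))
    rw [hσ] at h5
    rwa [h4, hp.pow_eq_one ((mul_right_eq_self₀.1 h5.symm).resolve_right hβ.ne_zero),
      mul_one] at hee
  obtain rfl : e = 1 := hp.fix_eq_one hE hR hx hw he (by rw [← hge, h2]) hx hw (by
    rw [hτ', map_smul, ← hge, hg])
  exact ⟨hσ, fun e _ v => by rw [hge, hge]; rfl⟩

theorem Sym.sq_scalar [Nontrivial V] (hK : ∀ c : K, c ≠ 0 → c = 1 ∨ c = -1) (hE : Sym E)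
    {e : V ≃ₗ[K] V} (he : e ∈ E) : ∃ c : K, IsSc c (e ^ 2) :=
  hE.cent _ (pow_mem he 2) fun f hf => by
    obtain ⟨β, hβ⟩ := hE.comm e he f hf
    have := hβ.pow_left 2
    rcases hK β hβ.ne_zero with rfl | rfl <;> simpa using this

theorem Sym.tri_three [Finite K] [Finite V] [Nontrivial V] (hK : ∀ c : K, c ≠ 0 → c = 1 ∨ c = -1)
    (Φ : (V ≃+ V) → Prop) (hE : Sym E) {U : Submodule K V} (hU : Inv E U) (h0 : U ≠ ⊥) :
    Aniso E ∨ (∃ w t, Pair E 2 (-1) w t ∧ Aniso (sub E w t)) ∨ ∃ z, GoodS Φ E U z := by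
  have := hE.tri (Φ := Φ) (P := fun _ => True)
    (fun s hs => by rcases hK s hs with rfl | rfl <;> norm_num)
    (fun E' _ hE' w₁ t₁ w₂ t₂ U h hU h0 hA => by simpa using h.goodS_three hE' hU h0 hA) hU h0
  simpa using this

theorem Sym.three_sing [Finite K] [Finite V] [Nontrivial V]
    (hK : ∀ c : K, c ≠ 0 → c = 1 ∨ c = -1) (h3 : NoThree K Φ) (hE : Sym E)
    (hw : w ∈ E) (hn : ¬ ∃ c : K, IsSc c w) (h1 : w ^ 2 = 1) {u : V ≃ₗ[K] V} (hu : u ∈ E)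
    (hb : ∀ g, Φ g → Im g w w → Im g u u → ∃ e ∈ E, ∀ v, g v = e v) :
    ∃ x y : V, y ≠ 0 ∧ IsBase Φ E x y 0 := by
  have hU : Inv E ⊤ := fun _ _ _ _ => trivial
  obtain ⟨ζ, t₀, hp₀⟩ := hE.exists_wpair hw hn Nat.prime_two ⟨1, h1 ▸ isSc_one⟩
  obtain rfl := hp₀.eq_neg_one
  obtain ⟨t, hp, ht⟩ : ∃ t, Pair E 2 (-1) w t ∧ (t = u ∨ Cm 1 w u) := by
    obtain ⟨β, hβ⟩ := hE.comm w hw u hu
    rcases hK β hβ.ne_zero with rfl | rfl
    · exact ⟨t₀, ⟨hp₀, h1⟩, Or.inr hβ⟩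
    · exact ⟨u, ⟨⟨hp₀.prime, hp₀.prim, hw, hu, hβ, hp₀.pa, hE.sq_scalar hK hu⟩, h1⟩, Or.inl rfl⟩
  rcases (hp.sym hE).tri_three hK (fun _ => True) (hU.sub w t) (hp.fixU_ne hU top_ne_bot) with
    h | ⟨w', t', h2, h4⟩ | ⟨-, x, hxU, -, -, hx, -, hR, -⟩
  · exact hp.base_of_aniso hE h _
  · exact Dbl.three hK h3 ⟨hp, h2⟩ hE h4
  · rcases ht with rfl | ht
    · exact ⟨_, x, hx, hp.three_step hK hE hR hx hxU.2 (map_zero w)
        fun g _ hg _ _ _ i1 i2 _ => hb g hg i1 i2⟩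
    · exact ⟨_, x, hx, hp.three_step hK hE hR hx hxU.2 (ht.fix hxU.2)
        fun g _ hg _ _ h i1 _ H => hb g hg i1 (H u hu h)⟩

theorem Quat.mem_sub [Nontrivial V] (hK : ∀ c : K, c ≠ 0 → c = 1 ∨ c = -1) (hq : Quat E a b)
    (hE : Sym E) {α β : K} (h : α ^ 2 + β ^ 2 = -1) {x : V} (hx0 : x ≠ 0)
    (hx : α • b x + β • a (b x) = x) {e : V ≃ₗ[K] V} (he : e ∈ E) (hf : e x = x) :
    e ∈ sub E a b := by
  have n := hq.wp.ne_one
  have n2 : (2 : K) ≠ 0 := fun h => n (by linear_combination -h)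
  have nsq : ∀ c : K, c ^ 2 ≠ -1 := fun c hc => by
    by_cases h0 : c = 0
    · simp [h0] at hc
    · rcases hK c h0 with rfl | rfl <;> exact n (by simpa using hc.symm)
  have hα : α ≠ 0 := fun h0 => nsq β (by simpa [h0] using h)
  have hβ : β ≠ 0 := fun h0 => nsq α (by simpa [h0] using h)
  obtain ⟨γ, hγ⟩ := hE.comm e he a hq.wp.mem_a
  obtain ⟨δ, hδ⟩ := hE.comm e he b hq.wp.mem_b
  have h1 := congrArg e hx
  rw [map_add, map_smul, map_smul, hγ, hδ, hf, map_smul] at h1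
  rcases hK γ hγ.ne_zero with rfl | rfl <;> rcases hK δ hδ.ne_zero with rfl | rfl
  · exact Base.mem_sub.2 ⟨he, hγ.symm_one, hδ.symm_one⟩
  · exact absurd (by linear_combination (norm := module) -hx - h1 : (2 : K) • x = 0)
      (smul_ne_zero n2 hx0)
  · exact absurd (by linear_combination (norm := module) hx - h1 : (2 * β) • a (b x) = 0)
      (smul_ne_zero (mul_ne_zero n2 hβ) (apply_ne_zero a (apply_ne_zero b hx0)))
  · exact absurd (by linear_combination (norm := module) hx - h1 : (2 * α) • b x = 0)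
      (smul_ne_zero (mul_ne_zero n2 hα) (apply_ne_zero b hx0))

theorem Quat.three [Finite K] [Finite V] [Nontrivial V] (hK : ∀ c : K, c ≠ 0 → c = 1 ∨ c = -1)
    (hq : Quat E a b) (hE : Sym E)
    (hb : ∀ g, Φ g → Im g a a → Im g b b → ∃ e ∈ E, ∀ v, g v = e v) :
    ∃ x y : V, y ≠ 0 ∧ IsBase Φ E x y 0 := by
  have hU : Inv E ⊤ := fun _ _ _ _ => trivial
  obtain ⟨α, β, h1, h2⟩ := hq.exists_quatU hU top_ne_bot
  have key : ∀ x ∈ quatU ⊤ a b α β, x ≠ 0 → Reg (sub E a b) x →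
      ∃ x y : V, y ≠ 0 ∧ IsBase Φ E x y 0 := fun x hxU hx hR => by
    have hxU := (mem_quatU.1 hxU).2
    have hR' : Reg E x := fun e he h => hR e (hq.mem_sub hK hE h1 hx hxU he h) h
    refine ⟨x, a x, apply_ne_zero a hx, fun g σ hΦ hN hg hy _ => ?_⟩
    have hσ := ringHom_eq_three hK σ
    have H : ∀ e ∈ E, g (e x) = e x → Im g e e := fun e he h => by
      obtain ⟨e', he', hee⟩ := hN.conj e he
      rwa [hR'.eq he' he (by rw [← h, hee, hg])] at hee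
    have i1 := H a hq.wp.mem_a hy
    obtain ⟨e, he, hge⟩ := hb g hΦ i1 (H b hq.wp.mem_b (hq.im_b h1 hN hσ i1 hxU hg))
    obtain rfl : e = 1 := hR' e he (by rw [← hge, hg])
    exact ⟨hσ, fun e _ v => by rw [hge, hge]; rfl⟩
  rcases (hq.wp.sym hE).tri_three hK (fun _ => True) (hU.quatU a b α β) h2 with
    h | ⟨w, t, hp, h⟩ | ⟨-, x, hxU, -, -, hx, -, hR, -⟩
  · obtain ⟨x, hxU, hx⟩ := (Submodule.ne_bot_iff _).1 h2
    exact key x hxU hx (h.reg (hq.wp.sym hE) hx)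
  · obtain ⟨x, ⟨hxU, hw⟩, hx⟩ := (Submodule.ne_bot_iff _).1 (hp.fixU_ne (hU.quatU a b α β) h2)
    have hxU := (mem_quatU.1 hxU).2
    have hp' : Pair E 2 (-1) w t := ⟨hp.mono (sub_le _ _ _), hp.one⟩
    refine ⟨_, x, hx, hp'.three_step hK hE (fun e he hf => h.reg (hp.sym (hq.wp.sym hE)) hx e
      (Base.mem_sub.2 ⟨hq.mem_sub hK hE h1 hx hxU (sub_le _ _ _ he) hf, (Base.mem_sub.1 he).2⟩) hf)
      hx hw ((Base.mem_sub.1 hp.mem_a).2.1.symm_one.fix hw) fun g σ hΦ hN hg hy _ _ H => ?_⟩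
    have i1 := H a hq.wp.mem_a hy
    exact hb g hΦ i1 (H b hq.wp.mem_b (hq.im_b h1 hN (ringHom_eq_three hK σ) i1 hxU hg))
  · exact key x hxU hx hR

theorem Sym.three [Finite K] [Finite V] [Nontrivial V] (hK : ∀ c : K, c ≠ 0 → c = 1 ∨ c = -1)
    (h3 : NoThree K Φ) (hE : Sym E) (ha : a ∈ E) (hb : b ∈ E)
    (H : ∀ g, Φ g → Im g a a → Im g b b → ∃ e ∈ E, ∀ v, g v = e v) :
    ∃ x y : V, y ≠ 0 ∧ IsBase Φ E x y 0 := by
  have hU : Inv E ⊤ := fun _ _ _ _ => trivial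
  by_cases hA : Aniso E
  · obtain ⟨x, -, y, -, -, hy, -, hB⟩ := hA.good hE hU top_ne_bot Φ 0
    exact ⟨x, y, hy, hB⟩
  simp only [Aniso, not_forall, not_not] at hA
  obtain ⟨r, ζ, w, t, hp⟩ := hA
  obtain rfl : ζ = -1 := (hK ζ hp.ne_zero).resolve_left hp.ne_one
  obtain rfl : r = 2 := (Nat.prime_dvd_prime_iff_eq hp.prime Nat.prime_two).1
    ((hp.prim.pow_eq_one_iff_dvd 2).1 (by simp))
  have hw : ¬ ∃ c : K, IsSc c w := fun ⟨c, hc⟩ => hp.ne_one (hp.cm.unique (hc.cm_left t))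
  have sc : ∀ (g : V ≃+ V) (e : V ≃ₗ[K] V), (∃ c : K, IsSc c e) → Im g e e :=
    fun g e ⟨c, hc⟩ v => by
      rcases hK c hc.ne_zero with rfl | rfl
      · rw [hc, hc, one_smul, one_smul]
      · rw [hc, hc, neg_one_smul, neg_one_smul, map_neg]
  have ba : ∀ g : V ≃+ V, Im g (a * b) (a * b) → Im g a a → Im g b b := fun g h1 h2 => by
    simpa using h2.inv.mul h1
  by_cases h1 : ∃ c : K, IsSc c a
  · exact hE.three_sing hK h3 hp.mem_a hw hp.one hb fun g hg _ h => H g hg (sc g a h1) h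
  by_cases h2 : ∃ c : K, IsSc c b
  · exact hE.three_sing hK h3 hp.mem_a hw hp.one ha fun g hg _ h => H g hg h (sc g b h2)
  by_cases h4 : ∃ c : K, IsSc c (a * b)
  · exact hE.three_sing hK h3 hp.mem_a hw hp.one ha fun g hg _ h =>
      H g hg h (ba g (sc g _ h4) h)
  obtain ⟨l, hl⟩ := hE.sq_scalar hK ha
  obtain ⟨m, hm⟩ := hE.sq_scalar hK hb
  rcases hK l hl.ne_zero with rfl | rfl
  · exact hE.three_sing hK h3 ha h1 hl.eq_one hb H
  rcases hK m hm.ne_zero with rfl | rfl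
  · exact hE.three_sing hK h3 hb h2 hm.eq_one ha fun g hg i1 i2 => H g hg i2 i1
  obtain ⟨β, hβ⟩ := hE.comm a ha b hb
  rcases hK β hβ.ne_zero with rfl | rfl
  · exact hE.three_sing hK h3 (mul_mem ha hb) h4
      (IsSc.eq_one (by simpa using isSc_mul_sq hβ.symm_one hl hm)) ha
      fun g hg i1 i2 => H g hg i2 (ba g i1 i2)
  · exact Quat.three hK ⟨⟨hp.prime, hp.prim, ha, hb, hβ, ⟨_, hl⟩, ⟨_, hm⟩⟩, hl, hm⟩ hE H

theorem exists_pow_ne_one [Finite K] {n : ℕ} (hn : ¬ Nat.card K - 1 ∣ n) :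
    ∃ s : K, s ≠ 0 ∧ s ^ n ≠ 1 := by
  by_contra! h
  apply hn
  rw [← Nat.card_units, ← IsCyclic.exponent_eq_card, Monoid.exponent_dvd_iff_forall_pow_eq_one]
  exact fun u => Units.ext (by simpa using h u u.ne_zero)

theorem Sym.generic [Finite K] [Finite V] [Nontrivial V] (h3 : Nat.card K ≠ 3)
    (h4 : Nat.card K ≠ 4) (h5 : Nat.card K ≠ 5) (hE : Sym E) (Φ : (V ≃+ V) → Prop) :
    ∃ x y : V, y ≠ 0 ∧ IsBase Φ E x y 0 := by
  have h1 := Finite.one_lt_card (α := K)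
  have h2 : ∀ c : K, c ≠ 0 → c ≠ 1 → Nat.card K ≠ 2 := fun c h0 hc h => by
    obtain ⟨y, -, hy⟩ := (Nat.card_eq_two_iff' (0 : K)).1 h
    exact hc ((hy c h0).trans (hy 1 one_ne_zero).symm)
  obtain ⟨x, -, y, -, -, hy, -, hB⟩ := hE.good (U := ⊤) (fun h => exists_pow_ne_one fun hd => by
      have := h2 (-1) (neg_ne_zero.2 one_ne_zero) h
      have h6 := Nat.le_of_dvd (by norm_num) hd
      have h7 : Nat.card K ≤ 5 := by omega
      interval_cases Nat.card K <;> simp_all)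
    (fun ⟨ζ, h⟩ => exists_pow_ne_one fun hd => by
      have := h2 ζ (h.ne_zero (by norm_num)) (h.ne_one (by norm_num))
      have h6 := Nat.le_of_dvd (by norm_num) hd
      have h7 : Nat.card K ≤ 4 := by omega
      interval_cases Nat.card K <;> simp_all) Φ 0 (fun _ _ _ _ => trivial) top_ne_bot
  exact ⟨x, y, hy, hB⟩

theorem card_three [Finite K] (h : Nat.card K = 3) (c : K) (hc : c ≠ 0) : c = 1 ∨ c = -1 := by
  have := Fintype.ofFinite K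
  have h1 := FiniteField.pow_card_sub_one_eq_one c hc
  rw [← Nat.card_eq_fintype_card, h] at h1
  exact sq_eq_one_iff.1 h1

theorem card_four [Finite K] (h : Nat.card K = 4) (c : K) (hc : c ≠ 0) : c ^ 3 = 1 := by
  have := Fintype.ofFinite K
  have h1 := FiniteField.pow_card_sub_one_eq_one c hc
  rwa [← Nat.card_eq_fintype_card, h] at h1

theorem base_of_scalar [Finite K] [Finite V] [Nontrivial V] (hE : Sym E)
    (h : ∀ e ∈ E, ∃ c : K, IsSc c e) (Φ : (V ≃+ V) → Prop) :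
    ∃ x y : V, y ≠ 0 ∧ IsBase Φ E x y 0 := by
  have hA : Aniso E := fun r ζ w t hp => by
    obtain ⟨c, hc⟩ := h w hp.mem_a
    exact hp.ne_one (hp.cm.unique (hc.cm_left t))
  obtain ⟨x, -, y, -, -, hy, -, hB⟩ := hA.good hE (U := ⊤) (fun _ _ _ _ => trivial) top_ne_bot Φ 0
  exact ⟨x, y, hy, hB⟩

/-- A base of size three for the full normalizer. -/
theorem Sym.base_three [Finite K] [Finite V] [Nontrivial V] (hE : Sym E)
    (hsq : Nat.card K = 5 → ∀ e ∈ E, ∀ c : K, IsSc c (e ^ 2) → IsSquare c) (Φ : (V ≃+ V) → Prop) :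
    ∃ x y z : V, y ≠ 0 ∧ IsBase Φ E x y z := by
  have hU : Inv E ⊤ := fun _ _ _ _ => trivial
  have key : (∃ x y : V, y ≠ 0 ∧ IsBase Φ E x y 0) → ∃ x y z : V, y ≠ 0 ∧ IsBase Φ E x y z :=
    fun ⟨x, y, h⟩ => ⟨x, y, 0, h⟩
  by_cases h3 : Nat.card K = 3
  · rcases hE.tri_three (card_three h3) Φ hU top_ne_bot with
      h | ⟨w, t, hp, h⟩ | ⟨z, x, -, y, -, -, hy, -, hB, -⟩
    · obtain ⟨x, -, y, -, -, hy, -, hB⟩ := h.good hE hU top_ne_bot Φ 0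
      exact ⟨x, y, 0, hy, hB⟩
    · exact key (hp.base_of_aniso hE h Φ)
    · exact ⟨x, y, z, hy, hB⟩
  by_cases h4 : Nat.card K = 4
  · rcases hE.four (card_four h4) Φ hU top_ne_bot with h | ⟨z, -, x, -, y, -, -, hy, -, hB, -⟩
    · exact key (base_of_scalar hE h Φ)
    · exact ⟨x, y, z, hy, hB⟩
  by_cases h5 : Nat.card K = 5
  · exact key (hE.five h5 (hsq h5) Φ)
  · exact key (hE.generic h3 h4 h5 Φ)

/-- A base of size two away from the fields with three and four elements. -/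
theorem Sym.base_two [Finite K] [Finite V] [Nontrivial V] (hE : Sym E)
    (hsq : Nat.card K = 5 → ∀ e ∈ E, ∀ c : K, IsSc c (e ^ 2) → IsSquare c) (Φ : (V ≃+ V) → Prop)
    (h3 : Nat.card K = 3 → ∃ x y : V, y ≠ 0 ∧ IsBase Φ E x y 0)
    (h4 : Nat.card K = 4 → (∀ e ∈ E, ∃ c : K, IsSc c e) ∨ ∀ g, Φ g → NoSwap g) :
    ∃ x y : V, y ≠ 0 ∧ IsBase Φ E x y 0 := by
  have hU : Inv E ⊤ := fun _ _ _ _ => trivial
  by_cases k3 : Nat.card K = 3
  · exact h3 k3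
  by_cases k4 : Nat.card K = 4
  · rcases h4 k4 with h | h
    · exact base_of_scalar hE h Φ
    rcases hE.four (card_four k4) Φ hU top_ne_bot with h | ⟨z, hz, x, -, y, -, -, hy, -, hB, -⟩
    · exact base_of_scalar hE h Φ
    · exact ⟨x, y, hy, hz h ▸ hB⟩
  by_cases h5 : Nat.card K = 5
  · exact hE.five h5 (hsq h5) Φ
  · exact hE.generic k3 k4 h5 Φ

end CfsgLib.Base
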