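import Mathlib
import Cfsg.Agent.Lib.Base.Three
import Cfsg.Agent.Lib.Base.Imprim
import Cfsg.Agent.Lib.Core.Fitting
import Cfsg.Agent.Lib.Perm.MultiTransField
import Cfsg.Agent.Lib.Perm.MultiTransSection

/-!
The structure of primitive modules of solvable groups: a maximal abelian normal subgroup acts by
scalars of a field, and the Fitting subgroup of its centralizer is of symplectic type.
-/

set_option autoImplicit false

namespace CfsgLib.Base

open Subgroup Cfsg CfsgLib.Perm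
open scoped Pointwise commutatorElement

universe u

variable {G V : Type*} [Group G] [AddCommGroup V] [DistribMulAction G V]

theorem Prim.isField [Finite G] [Finite V] [Nontrivial V] (h : Prim G V) (A : Subgroup G)
    [A.Normal] [IsMulCommutative A] : IsField (genRing V A) := by
  have hc : ∀ f ∈ genRing V A, ∀ f' ∈ genRing V A, ∀ v, f (f' v) = f' (f v) := fun f hf f' hf' v => by
    have h1 : genRing V A ≤ Subring.centralizer (DistribMulAction.toAddMonoidEnd G V '' A) :=
      Subring.closure_le.2 (by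
        rintro _ ⟨a, ha, rfl⟩ _ ⟨b, hb, rfl⟩
        rw [← map_mul, ← map_mul, setLike_mul_comm (s := A) hb ha])
    have h2 : genRing V A ≤ Subring.centralizer {f} := Subring.closure_le.2 (by
      rintro a ha _ rfl
      exact (h1 hf a ha).symm)
    exact DFunLike.congr_fun (h2 hf' f rfl) v
  obtain ⟨U, ⟨h0, S, hS, hU⟩, hmin⟩ := exists_minimal_of_wellFoundedLT
    (fun U : AddSubgroup V => U ≠ ⊥ ∧ ∃ S : Set (AddMonoid.End V), (∀ f ∈ S, f ∈ genRing V A) ∧
      ∀ v, v ∈ U ↔ ∀ f ∈ S, f v = 0) ⟨⊤, top_ne_bot, ∅, by simp, by simp⟩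
  have h1 : ∀ f ∈ genRing V A, (∀ v ∈ U, f v = 0) ∨ ∀ v ∈ U, f v = 0 → v = 0 := fun f hf => by
    refine or_iff_not_imp_right.2 fun h => ?_
    push Not at h
    obtain ⟨w, hw, h2, h3⟩ := h
    have := hmin (y := U ⊓ AddMonoidHom.ker (f : V →+ V))
      ⟨fun h => h3 (h.le ⟨hw, h2⟩), insert f S, by
        rintro _ (rfl | h)
        exacts [hf, hS _ h], fun v => by
        rw [AddSubgroup.mem_inf, hU, Set.forall_mem_insert, and_comm]; rfl⟩ inf_le_left
    exact fun v hv => (this hv).2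
  have h2 : ∀ g : G, g • U ≠ U → ∃ f ∈ genRing V A, (∀ v ∈ g • U, f v = 0) ∧
      ∀ v ∈ U, f v = 0 → v = 0 := fun g hg => by
    by_contra! hcon
    have h3 : U ≤ g • U := fun v hv => by
      rw [AddSubgroup.mem_pointwise_smul_iff_inv_smul_mem, hU]
      intro f hf
      obtain ⟨f', hf', e⟩ := exists_conj_genRing A g (hS f hf)
      rw [← smul_eq_zero_iff_eq g, e, smul_inv_smul]
      refine (h1 f' hf').resolve_right (fun h => ?_) v hv
      obtain ⟨w, hw, h4, h5⟩ := hcon f' hf' fun w hw => by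
        obtain ⟨u, hu, rfl⟩ := (AddSubgroup.mem_smul_pointwise_iff_exists _ _ _).1 hw
        rw [← e, (hU u).1 hu f hf, smul_zero]
      exact h5 (h w hw h4)
    have h4 : ∀ n : ℕ, U ≤ g ^ n • U := fun n => by
      induction n with
      | zero => simp
      | succ n ih =>
        rw [pow_succ', mul_smul]
        exact h3.trans (AddSubgroup.pointwise_smul_le_pointwise_smul_iff.2 ih)
    refine hg (le_antisymm ?_ h3)
    have := AddSubgroup.pointwise_smul_le_pointwise_smul_iff (a := g).2 (h4 (orderOf g - 1))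
    rwa [← mul_smul, ← pow_succ', Nat.sub_add_cancel (orderOf_pos g), pow_orderOf_eq_one,
      one_smul] at this
  have h3 : ∀ s : Finset G, (∀ g ∈ s, g • U ≠ U) → ∃ f ∈ genRing V A,
      (∀ g ∈ s, ∀ v ∈ g • U, f v = 0) ∧ ∀ v ∈ U, f v = 0 → v = 0 := fun s => by
    classical
    induction s using Finset.induction_on with
    | empty => exact fun _ => ⟨1, one_mem _, by simp, fun _ _ h => h⟩
    | insert g s _ ih =>
      intro hs
      obtain ⟨f, hf, e1, e2⟩ := ih fun g hg => hs g (Finset.mem_insert_of_mem hg)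
      obtain ⟨f', hf', e3, e4⟩ := h2 g (hs g (Finset.mem_insert_self _ _))
      refine ⟨f * f', mul_mem hf hf', fun a ha v hv => ?_, fun v hv h => e4 v hv (e2 _ ?_ h)⟩
      · change f (f' v) = 0
        rcases Finset.mem_insert.1 ha with rfl | ha
        · rw [e3 v hv, map_zero]
        · rw [hc f hf f' hf', e1 a ha v hv, map_zero]
      · exact (hU _).2 fun a ha => by rw [hc a (hS a ha) f' hf', (hU v).1 hv a ha, map_zero]
  obtain rfl : U = ⊤ := h U h0 (by
    classical
    have := Fintype.ofFinite G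
    obtain ⟨f, -, e1, e2⟩ := h3 (Finset.univ.filter fun g => g • U ≠ U) (by simp)
    have : (⨆ g : G, ⨆ _ : g • U ≠ U, g • U) ≤ AddMonoidHom.ker (f : V →+ V) :=
      iSup₂_le fun g hg v hv => e1 g (by simpa using hg) v hv
    exact AddSubgroup.disjoint_def.2 fun hv hv' => e2 _ hv (this hv'))
  exact isField_of_inj _ fun f hf v hv e => (h1 f hf).elim
    (fun h => AddMonoidHom.ext fun w => h w trivial) fun h => absurd (h v trivial e) hv

/-- A maximal abelian normal subgroup acting by scalars. -/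
structure PSetup (G V K : Type*) [Group G] [AddCommGroup V] [DistribMulAction G V] [Field K]
    [Module K V] where
  σ : G →* RingAut K
  A : Subgroup G
  ι : A →* Kˣ
  normal : A.Normal
  comm : IsMulCommutative A
  semi : ∀ (g : G) (c : K) (v : V), g • c • v = σ g c • g • v
  scal : ∀ (a : A) (v : V), (a : G) • v = (ι a : K) • v
  ker : σ.ker = centralizer (A : Set G)
  max : ∀ B : Subgroup G, B.Normal → IsMulCommutative B → B ≤ centralizer (A : Set G) → B ≤ A

theorem Prim.exists_setup [Finite G] [Finite V] [Nontrivial V] [FaithfulSMul G V] (h : Prim G V) :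
    ∃ (K : Type) (_ : Field K) (_ : Finite K) (_ : Module K V), Nonempty (PSetup G V K) := by
  obtain ⟨A, ⟨hA, hA'⟩, hmax⟩ := exists_maximal_of_wellFoundedGT
    (fun A : Subgroup G => A.Normal ∧ IsMulCommutative A) ⟨⊥, inferInstance, inferInstance⟩
  have hfin : Finite (AddMonoid.End V) :=
    Finite.of_injective (fun f : AddMonoid.End V => (f : V → V)) DFunLike.coe_injective
  have hF := h.isField A
  let _ := hF.toField
  let ε := Shrink.ringEquiv.{0} (genRing V A)
  let _ : Module (Shrink.{0} (genRing V A)) V := Module.compHom V ε.toRingHom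
  have hsm : ∀ (c : Shrink.{0} (genRing V A)) (v : V), c • v = (ε c : AddMonoid.End V) v :=
    fun _ _ => rfl
  obtain ⟨σ, hσ⟩ := exists_ringAut_hom (G := G) (V := V) (K := Shrink.{0} (genRing V A))
    fun g c => by
      obtain ⟨f, hf, h⟩ := exists_conj_genRing A g (ε c).2
      exact ⟨ε.symm ⟨f, hf⟩, fun v => by rw [hsm, hsm, h, RingEquiv.apply_symm_apply]⟩
  let ι₀ : A →* genRing V A := ((DistribMulAction.toAddMonoidEnd G V).comp A.subtype).codRestrict
    (genRing V A) fun a => mem_genRing a.2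
  have hι : ∀ (a : A) (v : V), (a : G) • v = ε.symm (ι₀ a) • v := fun a v => by
    rw [hsm, RingEquiv.apply_symm_apply]; rfl
  refine ⟨Shrink.{0} (genRing V A), inferInstance, inferInstance, inferInstance, ⟨σ, A,
    (ε.symm.toMonoidHom.comp ι₀).toHomUnits, hA, hA', hσ, hι, le_antisymm (fun g hg a ha => ?_)
      fun g hg => RingEquiv.ext fun c => ?_, fun B _ _ hB => ?_⟩⟩
  · refine FaithfulSMul.eq_of_smul_eq_smul (α := V) fun v => ?_
    rw [mul_smul, mul_smul, hι ⟨a, ha⟩, hι ⟨a, ha⟩, hσ, hg]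
    rfl
  · obtain ⟨v, hv⟩ := exists_ne (0 : V)
    refine smul_left_injective _ ((smul_ne_zero_iff_ne g).2 hv) ((hσ g c v).symm.trans ?_)
    have : genRing V A ≤ Subring.centralizer {DistribMulAction.toAddMonoidEnd G V g} := by
      refine Subring.closure_le.2 ?_
      rintro _ ⟨a, ha, rfl⟩ _ rfl
      rw [← map_mul, ← map_mul, hg a ha]
    exact DFunLike.congr_fun (this (ε c).2 _ rfl) v
  · exact le_sup_left.trans (hmax (y := B ⊔ A) ⟨inferInstance, Core.isMulCommutative_sup hB⟩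
      le_sup_right)

variable {K : Type*} [Field K] [Module K V]

namespace PSetup

variable (S : PSetup G V K)

instance : S.A.Normal := S.normal

instance : IsMulCommutative S.A := S.comm

/-- The Fitting subgroup of the centralizer of `A`. -/
def F : Subgroup G := fittingSubgroup G ⊓ centralizer (S.A : Set G)

instance : S.F.Normal := by
  have := Core.fittingSubgroup_normal G
  unfold F
  infer_instance

variable {S}

theorem lin {g : G} (hg : g ∈ centralizer (S.A : Set G)) (c : K) (v : V) :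
    g • c • v = c • g • v := by
  rw [← S.ker] at hg
  rw [S.semi, hg]
  rfl

theorem A_le_F : S.A ≤ S.F :=
  le_inf (Core.le_fittingSubgroup_of_isMulCommutative _) (le_centralizer _)

theorem mem_A [Finite G] [Group.IsSolvable G] {g : G} (hg : g ∈ centralizer (S.A : Set G))
    (h : g ∈ centralizer (S.F : Set G)) : g ∈ S.A := by
  let N := centralizer (S.A : Set G) ⊓ centralizer (S.F : Set G)
  have h1 : S.F ⊓ centralizer (S.F : Set G) ≤ S.A :=
    S.max _ inferInstance (Core.isMulCommutative_inf_centralizer _) (inf_le_left.trans inf_le_right)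
  have h2 : fittingSubgroup G ⊓ N ≤ S.A := fun x hx => h1 ⟨⟨hx.1, hx.2.1⟩, hx.2.2⟩
  rw [← Core.map_fittingSubgroup_of_normal] at h2
  exact h2 (mem_map_of_mem N.subtype (Core.centralizer_fittingSubgroup_le (x := ⟨g, hg, h⟩)
    fun n hn => Subtype.ext (hg n (h2 (mem_map_of_mem N.subtype hn)))))

theorem commutator_le [Finite G] : ⁅S.F, S.F⁆ ≤ S.A := by
  by_contra h
  obtain ⟨N, ⟨h1, h2, h3⟩, hmin⟩ := exists_minimal_of_wellFoundedLT
    (fun N : Subgroup G => N.Normal ∧ N ≤ ⁅S.F, S.F⁆ ∧ ¬ N ≤ S.A) ⟨_, inferInstance, le_rfl, h⟩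
  have hNF : N ≤ S.F := h2.trans (commutator_le_left _ _)
  have := Core.isNilpotent_fittingSubgroup G
  have : Group.IsNilpotent S.F := Core.isNilpotent_of_le (K := fittingSubgroup G) inf_le_left
  have h4 := Core.commutator_lt_of_isNilpotent hNF le_normalizer_of_normal
    (fun h => h3 (h ▸ bot_le))
  have h5 : ⁅N, S.F⁆ ≤ S.A := by
    by_contra h5
    exact h4.not_ge (hmin ⟨inferInstance, h4.le.trans h2, h5⟩ h4.le)
  have h6 : ⁅⁅N, S.F⁆, S.F⁆ = ⊥ := commutator_eq_bot_iff_le_centralizer.2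
    (h5.trans (le_centralizer_iff.1 inf_le_right))
  have h7 : ⁅⁅S.F, S.F⁆, N⁆ = ⊥ := commutator_commutator_eq_bot_of_rotate
    (by rwa [commutator_comm S.F N]) h6
  have h8 : N ≤ centralizer (N : Set G) := h2.trans (commutator_eq_bot_iff_le_centralizer.1 h7)
  exact h3 (S.max N h1 (le_centralizer_iff_isMulCommutative.1 h8) (hNF.trans inf_le_right))

variable (S) in
/-- The group of symplectic type attached to the module. -/
def E : Subgroup (V ≃ₗ[K] V) where
  carrier := {e | ∃ f ∈ S.F, ∃ c : Kˣ, ∀ v, e v = (c : K) • f • v}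
  one_mem' := ⟨1, one_mem _, 1, fun v => by simp⟩
  mul_mem' := by
    rintro a b ⟨f, hf, c, ha⟩ ⟨f', hf', d, hb⟩
    refine ⟨f * f', mul_mem hf hf', c * d, fun v => ?_⟩
    rw [LinearEquiv.mul_apply, ha, hb, lin hf.2, smul_smul, mul_smul f, Units.val_mul]
  inv_mem' := by
    rintro a ⟨f, hf, c, ha⟩
    refine ⟨f⁻¹, inv_mem hf, c⁻¹, fun v => a.injective ?_⟩
    rw [apply_inv_self, ha, lin hf.2, smul_inv_smul, smul_smul, Units.mul_inv, one_smul]

theorem exists_lin {g : G} (hg : g ∈ centralizer (S.A : Set G)) :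
    ∃ e : V ≃ₗ[K] V, ∀ v, e v = g • v :=
  ⟨{ DistribMulAction.toAddEquiv V g with map_smul' := lin hg }, fun _ => rfl⟩

theorem exists_E {f : G} (hf : f ∈ S.F) : ∃ e ∈ S.E, ∀ v, e v = f • v := by
  obtain ⟨e, he⟩ := exists_lin hf.2
  exact ⟨e, ⟨f, hf, 1, fun v => by simp [he]⟩, he⟩

theorem pow_apply {e : V ≃ₗ[K] V} {f : G} (hf : f ∈ centralizer (S.A : Set G)) {c : K}
    (h : ∀ v, e v = c • f • v) (n : ℕ) (v : V) : (e ^ n) v = c ^ n • f ^ n • v := by
  induction n with
  | zero => simp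
  | succ n ih => rw [pow_succ_apply', ih, h, lin hf, smul_smul, pow_succ', pow_succ' f, mul_smul f]

variable [Finite G] [Group.IsSolvable G] [FaithfulSMul G V]

theorem mem_A_of_scalar {g : G} (hg : g ∈ centralizer (S.A : Set G)) {c : K}
    (h : ∀ v : V, g • v = c • v) : g ∈ S.A :=
  mem_A hg fun f hf => FaithfulSMul.eq_of_smul_eq_smul (α := V) fun v => by
    rw [mul_smul, mul_smul, h, h, lin hf.2]

theorem mem_A_of_isSc {e : V ≃ₗ[K] V} {f : G} (hf : f ∈ centralizer (S.A : Set G)) {c : Kˣ}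
    (h : ∀ v, e v = (c : K) • f • v) {d : K} (hd : IsSc d e) : f ∈ S.A :=
  mem_A_of_scalar hf (c := (c⁻¹ : Kˣ) * d) fun v => by
    rw [mul_smul, ← hd, h, smul_smul, Units.inv_mul, one_smul]

omit [Finite G] [Group.IsSolvable G] [FaithfulSMul G V] in
theorem isSc_of_mem {e : V ≃ₗ[K] V} {f : G} (hf : f ∈ S.A) {c : K} (h : ∀ v, e v = c • f • v) :
    ∃ d : K, IsSc d e :=
  ⟨c * S.ι ⟨f, hf⟩, fun v => by rw [h, mul_smul, ← S.scal]⟩

omit [Group.IsSolvable G] [FaithfulSMul G V] in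
theorem comm_E {e e' : V ≃ₗ[K] V} (he : e ∈ S.E) (he' : e' ∈ S.E) : ∃ β : K, Cm β e e' := by
  obtain ⟨f, hf, c, h⟩ := he
  obtain ⟨f', hf', c', h'⟩ := he'
  refine ⟨S.ι ⟨_, commutator_le (commutator_mem_commutator hf hf')⟩, fun v => ?_⟩
  rw [h, h', h', h, lin hf.2, lin hf'.2, smul_comm (c : K), smul_comm (S.ι _ : K) (c' : K),
    smul_comm (S.ι _ : K) (c : K), ← S.scal]
  simp [commutatorElement_def, mul_smul]

theorem sym [Nontrivial V] : Sym S.E where
  scal c := ⟨1, one_mem _, c, fun v => by simp⟩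
  comm _ he _ he' := comm_E he he'
  cent e he h := by
    obtain ⟨f, hf, c, hc⟩ := he
    refine isSc_of_mem (mem_A hf.2 fun f' hf' => ?_) hc
    obtain ⟨e', he', h'⟩ := exists_E hf'
    refine FaithfulSMul.eq_of_smul_eq_smul (α := V) fun v => ?_
    have := (h e' he').apply v
    rw [hc, h', h', hc, lin hf'.2] at this
    rw [mul_smul, mul_smul, smul_right_injective V c.ne_zero this]
  sqf e he r _ h := by
    obtain ⟨f, hf, c, hc⟩ := he
    obtain ⟨d, hd⟩ := h
    let T : Set G := {x | ∃ f ∈ S.F, f ^ (r * r) ∈ S.A ∧ f ^ r = x}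
    have h1 : closure T ≤ S.A := S.max _ ⟨fun n hn g => by
        have : (closure T).map (MulAut.conj g).toMonoidHom ≤ closure T := by
          rw [MonoidHom.map_closure]
          refine closure_mono ?_
          rintro _ ⟨_, ⟨f, hf, h1, rfl⟩, rfl⟩
          exact ⟨g * f * g⁻¹, Normal.conj_mem inferInstance f hf g,
            by rw [conj_pow]; exact S.normal.conj_mem _ h1 g, by rw [conj_pow]; rfl⟩
        exact this (mem_map_of_mem _ hn)⟩
      (isMulCommutative_closure (by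
        rintro _ ⟨a, ha, h1, rfl⟩ _ ⟨b, hb, h2, rfl⟩
        obtain ⟨x, hx, hxa⟩ := exists_E ha
        obtain ⟨y, hy, hyb⟩ := exists_E hb
        obtain ⟨β, hβ⟩ := comm_E hx hy
        have px := pow_apply ha.2 (e := x) (c := 1) (by simpa using hxa)
        have py := pow_apply hb.2 (e := y) (c := 1) (by simpa using hyb)
        obtain ⟨d, hd⟩ := isSc_of_mem h2 (py (r * r))
        have h3 := (hβ.pow_left r).pow_right r
        rw [← pow_mul, hβ.pow_eq_one hd] at h3
        refine FaithfulSMul.eq_of_smul_eq_smul (α := V) fun v => ?_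
        simpa [px, py, mul_smul] using h3.apply v))
      ((closure_le _).2 (by
        rintro _ ⟨a, ha, -, rfl⟩
        exact pow_mem ha.2 r))
    exact isSc_of_mem (h1 (subset_closure ⟨f, hf, mem_A_of_isSc (pow_mem hf.2 _) (c := c ^ (r * r))
      (pow_apply hf.2 hc _) hd, rfl⟩)) (pow_apply hf.2 hc r)

omit [Finite G] [Group.IsSolvable G] [FaithfulSMul G V] in
theorem norm (g : G) : Norm S.E (DistribMulAction.toAddEquiv V g) (S.σ g : K →+* K) where
  semi := S.semi g
  conj := by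
    rintro e ⟨f, hf, c, h⟩
    obtain ⟨e', he', h'⟩ := exists_E (Normal.conj_mem inferInstance f hf g)
    refine ⟨sc (Units.map (S.σ g : K →+* K).toMonoidHom c) * e', ⟨_, Normal.conj_mem inferInstance
      f hf g, Units.map (S.σ g : K →+* K).toMonoidHom c, fun v => by
        rw [LinearEquiv.mul_apply, h']; rfl⟩, fun v => ?_⟩
    change g • e v = S.σ g c • e' (g • v)
    rw [h, S.semi, h']
    simp [mul_smul]

theorem eq_one {Φ : (V ≃+ V) → Prop} (hΦ : ∀ g : G, Φ (DistribMulAction.toAddEquiv V g))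
    {x y z : V} (hy : y ≠ 0) (h : IsBase Φ S.E x y z) {g : G} (h1 : g • x = x) (h2 : g • y = y)
    (h3 : g • z = z) (v : V) : g • v = v := by
  obtain ⟨h4, h5⟩ := h _ _ (hΦ g) (norm g) h1 h2 h3
  have h6 : g ∈ centralizer (S.A : Set G) := S.ker ▸ (RingEquiv.ext h4 : S.σ g = 1)
  have h7 : g ∈ S.A := mem_A h6 fun f hf => by
    obtain ⟨e, he, h⟩ := exists_E hf
    refine FaithfulSMul.eq_of_smul_eq_smul (α := V) fun v => ?_
    have : g • e v = e (g • v) := h5 e he v
    rw [mul_smul, mul_smul, ← h, ← h, this]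
  have h8 := S.scal ⟨g, h7⟩
  rw [h8, eq_one_of_smul_eq hy ((h8 y).symm.trans h2), one_smul]

omit [Finite G] [Group.IsSolvable G] in
theorem ι_injective : Function.Injective S.ι := (injective_iff_map_eq_one _).2 fun a ha =>
  Subtype.ext (FaithfulSMul.eq_of_smul_eq_smul (α := V) fun v => by simp [S.scal, ha])

theorem sup_cent (N : Subgroup G) [N.Normal] (hA : S.A ≤ N) (hN : N ≤ S.F) :
    N ⊔ (S.F ⊓ centralizer (N : Set G)) = S.F ∧ N ⊓ (S.F ⊓ centralizer (N : Set G)) = S.A := by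
  have h1 : N ⊓ (S.F ⊓ centralizer (N : Set G)) = S.A := le_antisymm
    (S.max _ inferInstance (by
      have := Core.isMulCommutative_inf_centralizer N
      exact Core.isMulCommutative_of_le (K := N ⊓ centralizer (N : Set G))
        (inf_le_inf_left _ inf_le_right)) (inf_le_left.trans (hN.trans inf_le_right)))
    (le_inf hA (le_inf A_le_F (le_centralizer_iff.1 (hN.trans inf_le_right))))
  refine ⟨?_, h1⟩
  have h2 := relIndex_centralizer_comm S.ι ι_injective N S.F (hN.trans inf_le_right) inf_le_right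
    fun x hx y hy => commutator_le (commutator_mem_commutator (hN hx) hy)
  have h3 : centralizer (S.F : Set G) ⊓ N = S.A := le_antisymm
    (fun x hx => mem_A (hN hx.2).2 hx.1) (le_inf (le_centralizer_iff.1 inf_le_right) hA)
  rw [← inf_relIndex_right, h3, ← h1, inf_comm N, inf_relIndex_right, ← relIndex_sup_right,
    ← inf_relIndex_right (centralizer _), inf_comm (centralizer _),
    ← relIndex_mul_relIndex _ (N ⊔ (S.F ⊓ centralizer (N : Set G))) S.F le_sup_right
      (sup_le hN inf_le_left)] at h2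
  exact le_antisymm (sup_le hN inf_le_left) (relIndex_eq_one.1
    ((mul_eq_left₀ index_ne_zero_of_finite).1 h2.symm))

theorem isSquare [Finite K] [Nontrivial V] (hK : Nat.card K = 5) :
    ∀ e ∈ S.E, ∀ c : K, IsSc c (e ^ 2) → IsSquare c := by
  have := Fintype.ofFinite K
  have h4 : ∀ s : K, s ≠ 0 → s ^ (2 * 2) = 1 := fun s hs => by
    have := FiniteField.pow_card_sub_one_eq_one s hs
    rwa [← Nat.card_eq_fintype_card, hK] at this
  have hm : IsSquare (-1 : K) := FiniteField.isSquare_neg_one_iff.2 (by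
    rw [← Nat.card_eq_fintype_card, hK]; norm_num)
  have hE : Sym S.E := sym
  have h1 : ∀ e ∈ S.E, ∃ c : K, IsSc c (e ^ 2) := fun e he =>
    hE.sqf e he 2 Nat.prime_two (hE.cent _ (pow_mem he _) fun f hf => by
      obtain ⟨β, hβ⟩ := hE.comm e he f hf
      exact h4 β hβ.ne_zero ▸ hβ.pow_left _)
  have h2 : ∀ e ∈ S.E, ∀ f ∈ S.E, ∀ c d : K, IsSc c (e ^ 2) → IsSc d (f ^ 2) → IsSquare (c * d) →
      ∃ b : K, IsSc b ((e * f) ^ 2) ∧ IsSquare b := fun e he f hf c d hc hd h => by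
    obtain ⟨β, hβ⟩ := hE.comm f hf e he
    refine ⟨_, isSc_mul_sq hβ hc hd, IsSquare.mul ?_ h⟩
    rcases sq_eq_one_iff.1 (hβ.pow_eq_one hc) with rfl | rfl
    exacts [IsSquare.one, hm]
  choose ρ hρE hρ using fun (f : G) (hf : f ∈ S.F) => exists_E hf
  have hsq : ∀ (f : G) (hf : f ∈ S.F) (c : K), IsSc c (ρ f hf ^ 2) ↔ ∀ v : V, f • f • v = c • v :=
    fun f hf c => forall_congr' fun v => by rw [pow_two, LinearEquiv.mul_apply, hρ, hρ]
  have hmul : ∀ (a b : G) (ha : a ∈ S.F) (hb : b ∈ S.F), ρ _ (mul_mem ha hb) = ρ a ha * ρ b hb :=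
    fun a b ha hb => LinearEquiv.ext fun v => by rw [LinearEquiv.mul_apply, hρ, hρ, hρ, mul_smul]
  let N : Subgroup G :=
    { carrier := {f | f ∈ S.F ∧ ∃ c : K, (∀ v : V, f • f • v = c • v) ∧ IsSquare c}
      one_mem' := ⟨one_mem _, 1, by simp, IsSquare.one⟩
      mul_mem' := by
        rintro a b ⟨ha, c, hc, hc'⟩ ⟨hb, d, hd, hd'⟩
        obtain ⟨x, h3, h5⟩ := h2 _ (hρE a ha) _ (hρE b hb) c d ((hsq a ha c).2 hc) ((hsq b hb d).2 hd)
          (hc'.mul hd')
        exact ⟨mul_mem ha hb, x, (hsq _ _ x).1 (hmul a b ha hb ▸ h3), h5⟩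
      inv_mem' := by
        rintro a ⟨ha, c, hc, hc'⟩
        refine ⟨inv_mem ha, c⁻¹, fun v => ?_, hc'.inv⟩
        rw [inv_smul_eq_iff, inv_smul_eq_iff, hc, smul_smul,
          mul_inv_cancel₀ ((hsq a ha c).2 hc).ne_zero, one_smul] }
  have : N.Normal := ⟨by
    rintro a ⟨ha, c, hc, hc'⟩ g
    refine ⟨Normal.conj_mem inferInstance a ha g, S.σ g c, fun v => ?_, hc'.map _⟩
    simp only [mul_smul, inv_smul_smul, hc, S.semi, smul_inv_smul]⟩
  have hA : S.A ≤ N := fun a ha => ⟨A_le_F ha, S.ι ⟨a, ha⟩ * S.ι ⟨a, ha⟩, fun v => by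
    rw [mul_smul, ← S.scal, ← S.scal], IsSquare.mul_self _⟩
  have h3 : ∀ a ∈ S.F, ∀ b ∈ S.F, a ∉ N → b ∉ N → a * b ∈ N := fun a ha b hb h5 h6 => by
    obtain ⟨c, hc⟩ := h1 _ (hρE a ha)
    obtain ⟨d, hd⟩ := h1 _ (hρE b hb)
    obtain ⟨x, h7, h8⟩ := h2 _ (hρE a ha) _ (hρE b hb) c d hc hd (isSquare_mul_of_not
      (fun h => h5 ⟨ha, c, (hsq a ha c).1 hc, h⟩) fun h => h6 ⟨hb, d, (hsq b hb d).1 hd, h⟩)
    exact ⟨mul_mem ha hb, x, (hsq _ _ x).1 (hmul a b ha hb ▸ h7), h8⟩
  have h5 : S.F ≤ N := by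
    rw [← (sup_cent N hA fun x hx => hx.1).1]
    refine sup_le le_rfl fun x hx => ?_
    by_contra h
    refine h (hA (mem_A hx.1.2 fun f hf => ?_))
    by_cases h6 : f ∈ N
    · exact hx.2 f h6
    · have := hx.2 _ (h3 f hf x hx.1 h6 h)
      rw [← mul_assoc] at this
      exact mul_right_cancel this
  rintro e ⟨f, hf, u, hu⟩ c hc
  obtain ⟨-, d, hd, hd'⟩ := h5 hf
  have : IsSc ((u : K) ^ 2 * d) (e ^ 2) := fun v => by
    rw [pow_apply hf.2 hu, pow_two f, mul_smul f, hd, mul_smul]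
  rw [hc.unique this]
  exact (IsSquare.sq _).mul hd'

omit [Group.IsSolvable G] in
theorem F_le_A {n : ℕ} (hn : n.Coprime (Nat.card G)) (h : ∀ c : K, c ≠ 0 → c ^ n = 1) :
    S.F ≤ S.A := by
  refine S.max _ inferInstance (le_centralizer_iff_isMulCommutative.1
    (commutator_eq_bot_iff_le_centralizer.1 (eq_bot_iff.2 fun a ha => ?_))) inf_le_right
  have h1 : S.ι ⟨a, commutator_le ha⟩ ^ n = 1 := Units.ext (by simpa using h _ (Units.ne_zero _))
  rw [← map_pow, map_eq_one_iff _ ι_injective] at h1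
  exact mem_of_pow_mem hn (congrArg Subtype.val h1 : a ^ n = 1) (mem_bot.2 pow_card_eq_one')

omit [Finite G] [Group.IsSolvable G] [FaithfulSMul G V] in
theorem scalar_of_le (h : S.F ≤ S.A) : ∀ e ∈ S.E, ∃ c : K, IsSc c e :=
  fun _ ⟨_, hf, _, h'⟩ => isSc_of_mem (h hf) h'

omit [Finite G] [Group.IsSolvable G] [FaithfulSMul G V] in
theorem mem_F {g : G} (hC : ∀ g : G, g ∈ centralizer (S.A : Set G))
    (hF : ∀ g : G, g ∈ centralizer (S.F : Set G) → g ∈ S.A) (hg : ∀ f ∈ S.F, ⁅f, g⁆ ∈ S.A) :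
    g ∈ S.F := by
  let π := QuotientGroup.mk' S.A
  let T := (centralizer (S.F.map π : Set (G ⧸ S.A))).comap π
  have : (S.F.map π).Normal := Normal.map inferInstance π (QuotientGroup.mk'_surjective _)
  have hT : ∀ g, g ∈ T ↔ ∀ f ∈ S.F, ⁅f, g⁆ ∈ S.A := fun g => by
    simp only [T, mem_comap, mem_centralizer_iff, SetLike.mem_coe, mem_map, forall_exists_index,
      and_imp, forall_apply_eq_imp_iff₂, ← commutatorElement_eq_one_iff_mul_comm,
      ← map_commutatorElement, ← MonoidHom.mem_ker]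
    simp only [π, QuotientGroup.ker_mk']
  have h1 : ⁅S.F, T⁆ ≤ S.A := Subgroup.commutator_le.2 fun f hf t ht => (hT t).1 ht f hf
  have h2 : ∀ B ≤ S.A, ⁅B, T⁆ = ⊥ := fun B hB => commutator_eq_bot_iff_le_centralizer.2
    (hB.trans (le_centralizer_iff.1 fun x _ => hC x))
  have h3 : ⁅⁅T, T⁆, S.F⁆ = ⊥ := commutator_commutator_eq_bot_of_rotate
    (h2 _ (by rwa [commutator_comm])) (h2 _ h1)
  exact ⟨Core.le_fittingSubgroup (N := T) (Core.isNilpotent_of_commutator_commutator_eq_bot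
    (h2 _ fun x hx => hF x (commutator_eq_bot_iff_le_centralizer.1 h3 hx))) ((hT g).2 hg), hC g⟩

end PSetup

open scoped IsMulCommutative in
theorem BaseLT.conj {ι : Type} {P : ℕ → Prop} {n : ℕ} (h : BaseLT.{u} ι P n) {X : Type u} [Group X]
    [Finite X] [Group.IsSolvable X] (hn : Nat.card X < n) (hP : P (Nat.card X)) (M : Subgroup X)
    [M.Normal] [IsMulCommutative M]
    (hM : ∀ N : Subgroup X, N.Normal → N ≤ M → ∃ W : Subgroup X, W.Normal ∧ N ⊓ W = ⊥ ∧ N ⊔ W = M) :
    ∃ v : ι → X, (∀ i, v i ∈ M) ∧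
      ∀ g : X, (∀ i, g * v i = v i * g) → g ∈ centralizer (M : Set X) := by
  let _ := conjAct M ⊤
  obtain ⟨v, hv⟩ := h (⊤ : Subgroup X) (Additive M) (by rwa [card_top]) (by rwa [card_top])
    fun U hU => by
      obtain ⟨W, hW, h1, h2⟩ := hM (U.toSubgroup'.map M.subtype) ⟨by
        rintro _ ⟨n, hn, rfl⟩ g
        exact ⟨_, hU ⟨g, trivial⟩ (Additive.ofMul n) hn, rfl⟩⟩ (map_subtype_le _)
      refine ⟨(W.subgroupOf M).toAddSubgroup, fun g u hu => hW.conj_mem _ hu g, ?_, ?_⟩
      · rw [eq_bot_iff]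
        intro w hw
        exact congrArg Additive.ofMul (Subtype.ext (h1.le ⟨⟨_, hw.1, rfl⟩, hw.2⟩) :
          Additive.toMul w = 1)
      · rw [eq_top_iff]
        intro u _
        have : (u.toMul : X) ∈ (↑(U.toSubgroup'.map M.subtype ⊔ W) : Set X) := h2.ge u.toMul.2
        rw [mul_normal] at this
        obtain ⟨_, ⟨a, ha, rfl⟩, b, hb, e⟩ := this
        exact AddSubgroup.mem_sup.2 ⟨Additive.ofMul a, ha,
          Additive.ofMul ⟨b, (le_sup_right.trans h2.le) hb⟩, hb,
          congrArg Additive.ofMul (Subtype.ext e)⟩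
  refine ⟨fun i => (v i).toMul, fun i => (v i).toMul.2, fun g hg m hm => ?_⟩
  have : g * m * g⁻¹ = m := congrArg (fun x : Additive M => (x.toMul : X))
    (hv ⟨g, trivial⟩ (fun i => congrArg Additive.ofMul (Subtype.ext
      (mul_inv_eq_iff_eq_mul.2 (hg i)))) (Additive.ofMul ⟨m, hm⟩))
  exact (mul_inv_eq_iff_eq_mul.1 this).symm

end CfsgLib.Base
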