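import Mathlib
import Cfsg.Agent.Lib.Base.Prim

/-!
Small bases of completely reducible modules of finite solvable groups: three vectors in general,
two vectors for groups of odd order, of order prime to three, and in the coprime case.
-/

set_option autoImplicit false

namespace CfsgLib.Base

open Subgroup
open scoped commutatorElement

universe u

section Prim

variable {G V : Type*} [Group G] [AddCommGroup V] [DistribMulAction G V]
variable {K : Type*} [Field K] [Module K V]

/-- Maps induced by the group. -/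
def InG (G : Type*) {V : Type*} [Group G] [AddCommGroup V] [DistribMulAction G V] (g : V ≃+ V) :
    Prop := ∃ γ : G, DistribMulAction.toAddEquiv V γ = g

theorem noThree [Finite G] (h3 : ¬ 3 ∣ Nat.card G) : NoThree K (InG G (V := V)) where
  mul := by
    rintro _ _ ⟨a, rfl⟩ ⟨b, rfl⟩
    exact ⟨a * b, AddEquiv.ext fun v => mul_smul a b v⟩
  cyc := by
    rintro _ ⟨γ, rfl⟩ e e' e'' h1 h2 h4
    let T : Subgroup G :=
      { carrier := {γ | ∀ v, γ • e v = e (γ • v)}
        one_mem' := by simp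
        mul_mem' := fun {a b} ha hb v => by rw [mul_smul, hb, ha, mul_smul]
        inv_mem' := fun {a} ha v => by rw [inv_smul_eq_iff, ha, smul_inv_smul] }
    have h1' : ∀ v, γ • e v = e' (γ • v) := h1
    have h2' : ∀ v, γ • e' v = e'' (γ • v) := h2
    have h4' : ∀ v, γ • e'' v = e (γ • v) := h4
    exact h1.unique (mem_of_pow_mem (S := T) (Nat.prime_three.coprime_iff_not_dvd.2 h3)
      (fun v => by simp only [pow_three, mul_smul, h1', h2', h4'])
      (by rw [pow_card_eq_one']; exact one_mem _))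

theorem noSwap [Finite G] (h : Odd (Nat.card G)) (g : V ≃+ V) (hg : InG G g) : NoSwap g := by
  obtain ⟨γ, rfl⟩ := hg
  intro a b h1 h2
  have h1' : γ • a = b := h1
  have h2' : γ • b = a := h2
  rw [← h1']
  exact (smul_eq_of_pow (Nat.coprime_two_left.2 h) (by rw [pow_two, mul_smul, h1', h2'])).symm

variable [Finite G] [Group.IsSolvable G] [FaithfulSMul G V] [Finite V] [Nontrivial V]

omit [Finite V] [Nontrivial V] in
theorem PSetup.hasBase_two (S : PSetup G V K)
    (h : ∃ x y : V, y ≠ 0 ∧ IsBase (InG G) S.E x y 0) : HasBase (Fin 2) G V := by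
  obtain ⟨x, y, hy, h⟩ := h
  exact ⟨![x, y], fun g hg => PSetup.eq_one (fun g => ⟨g, rfl⟩) hy h (hg 0) (hg 1) (smul_zero g)⟩

theorem Prim.hasBase_three (h : Prim G V) : HasBase (Fin 3) G V := by
  obtain ⟨K, _, _, _, ⟨S⟩⟩ := h.exists_setup
  obtain ⟨x, y, z, hy, h⟩ := (PSetup.sym (S := S)).base_three PSetup.isSquare (InG G)
  exact ⟨![x, y, z], fun g hg => PSetup.eq_one (fun g => ⟨g, rfl⟩) hy h (hg 0) (hg 1) (hg 2)⟩

theorem Prim.hasBase_odd (h : Prim G V) (hG : Odd (Nat.card G)) : HasBase (Fin 2) G V := by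
  obtain ⟨K, _, _, _, ⟨S⟩⟩ := h.exists_setup
  refine S.hasBase_two (PSetup.sym.base_two PSetup.isSquare _ (fun h3 => base_of_scalar PSetup.sym
    (PSetup.scalar_of_le (PSetup.F_le_A (Nat.coprime_two_left.2 hG) fun c hc => ?_)) _)
    fun _ => Or.inr (noSwap hG))
  rcases card_three h3 c hc with rfl | rfl <;> simp

theorem Prim.hasBase_char (h : Prim G V) (hV : (Nat.card V).Coprime 6) : HasBase (Fin 2) G V := by
  obtain ⟨K, _, _, _, ⟨S⟩⟩ := h.exists_setup
  have hK : (Nat.card K).Coprime 6 := hV.coprime_dvd_left (by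
    rw [Module.natCard_eq_pow_finrank (K := K) (V := V)]
    exact dvd_pow_self _ Module.finrank_pos.ne')
  exact S.hasBase_two (PSetup.sym.base_two PSetup.isSquare _
    (fun h3 => absurd (h3 ▸ hK) (by norm_num)) fun h4 => absurd (h4 ▸ hK) (by norm_num))

end Prim

theorem Prim.hasBase_not_three {G : Type u} {V : Type*} [Group G] [AddCommGroup V]
    [DistribMulAction G V] [Finite G] [Group.IsSolvable G] [FaithfulSMul G V] [Finite V]
    [Nontrivial V] (h : Prim G V) (hG : ¬ 3 ∣ Nat.card G)
    (ih : BaseLT.{u} (Fin 2) (fun n => ¬ 3 ∣ n) (Nat.card G)) : HasBase (Fin 2) G V := by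
  obtain ⟨K, _, _, _, ⟨S⟩⟩ := h.exists_setup
  refine S.hasBase_two (PSetup.sym.base_two PSetup.isSquare _ (fun h3 => ?_)
    fun h4 => Or.inl (PSetup.scalar_of_le
      (PSetup.F_le_A (Nat.prime_three.coprime_iff_not_dvd.2 hG) (card_four h4))))
  by_cases hF : S.F ≤ S.A
  · exact base_of_scalar PSetup.sym (PSetup.scalar_of_le hF) _
  have hA : S.A ≠ ⊥ := fun h => hF (S.max _ inferInstance (le_centralizer_iff_isMulCommutative.1
    (commutator_eq_bot_iff_le_centralizer.1 (le_bot_iff.1 (h ▸ PSetup.commutator_le))))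
    inf_le_right)
  let π := QuotientGroup.mk' S.A
  have hπ : Function.Surjective π := QuotientGroup.mk'_surjective _
  have hk : π.ker = S.A := QuotientGroup.ker_mk' _
  have : (S.F.map π).Normal := Normal.map inferInstance π hπ
  have : IsMulCommutative (S.F.map π) := le_centralizer_iff_isMulCommutative.1
    (commutator_eq_bot_iff_le_centralizer.1 (by
      rw [← map_commutator, Subgroup.map_eq_bot_iff, hk]
      exact PSetup.commutator_le))
  obtain ⟨v, hv, hb⟩ := ih.conj (X := G ⧸ S.A) (by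
      rw [← S.A.index_mul_card, ← index_eq_card]
      exact lt_mul_of_one_lt_right (Nat.pos_of_ne_zero index_ne_zero_of_finite)
        (S.A.one_lt_card_iff_ne_bot.2 hA))
    (fun h => hG (h.trans (card_quotient_dvd_card _))) (S.F.map π) fun N _ hN => by
      have h1 : S.A ≤ N.comap π := hk.ge.trans (ker_le_comap π N)
      have h2 : N.comap π ≤ S.F :=
        (comap_mono hN).trans (comap_map_eq_self (hk.le.trans PSetup.A_le_F)).le
      obtain ⟨h3, h4⟩ := PSetup.sup_cent (N.comap π) h1 h2
      refine ⟨(S.F ⊓ centralizer (N.comap π : Set G)).map π, Normal.map inferInstance π hπ,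
        eq_bot_iff.2 ?_, ?_⟩
      · rintro _ ⟨hx, w, hw, rfl⟩
        exact hk.ge (h4.le ⟨hx, hw⟩)
      · conv_rhs => rw [← h3, Subgroup.map_sup, map_comap_eq_self_of_surjective hπ]
  obtain ⟨a, ha, ea⟩ := hv 0
  obtain ⟨b, hb', eb⟩ := hv 1
  obtain ⟨x, hx, hxa⟩ := PSetup.exists_E ha
  obtain ⟨y, hy, hyb⟩ := PSetup.exists_E hb'
  refine PSetup.sym.three (card_three h3) (noThree hG) hx hy ?_
  rintro _ ⟨γ, rfl⟩ h1 h2
  have key : ∀ {f : G} {e : V ≃ₗ[K] V}, (∀ v, e v = f • v) →
      Im (DistribMulAction.toAddEquiv V γ) e e → π γ * π f = π f * π γ := fun {f e} h1 h2 => by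
    rw [← map_mul, ← map_mul]
    refine congrArg π (FaithfulSMul.eq_of_smul_eq_smul (α := V) fun v => ?_)
    have : γ • e v = e (γ • v) := h2 v
    rw [mul_smul, mul_smul, ← h1, ← h1, this]
  have h5 := hb (π γ) fun i => by
    fin_cases i
    · exact ea ▸ key hxa h1
    · exact eb ▸ key hyb h2
  have hC : ∀ g : G, g ∈ centralizer (S.A : Set G) := fun g =>
    S.ker ▸ (RingEquiv.ext (ringHom_eq_three (card_three h3) (S.σ g : K →+* K)) : S.σ g = 1)
  obtain ⟨e, he, h6⟩ := PSetup.exists_E (PSetup.mem_F hC (fun g => PSetup.mem_A (hC g))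
    fun f hf => by
      rw [← hk, MonoidHom.mem_ker, map_commutatorElement, commutatorElement_eq_one_iff_mul_comm]
      exact h5 _ (mem_map_of_mem π hf))
  exact ⟨e, he, fun v => (h6 v).symm⟩

theorem baseLT_three (n : ℕ) : BaseLT.{u} (Fin 3) (fun _ => True) n :=
  baseLT_all (C := Fin 5) (fun _ _ _ _ => trivial) (fun _ _ _ _ _ _ _ _ _ h => h.aff_five)
    (fun _ _ _ _ _ _ h => h.many_five) (fun _ _ _ _ _ _ _ _ _ _ h => h.many_five)
    (fun _ _ _ _ _ _ _ _ _ _ _ _ h => h.hasBase_three) n

theorem baseLT_odd (n : ℕ) : BaseLT.{u} (Fin 2) Odd n :=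
  baseLT_all (C := Fin 2) (fun _ _ h h' => h'.of_dvd_nat h)
    (fun _ _ _ _ _ _ _ h1 h2 h => h.aff_two h1 h2)
    (fun _ _ _ _ _ h1 h => h.many_prime Nat.prime_two h1.not_two_dvd_nat)
    (fun _ _ _ _ _ _ _ _ _ h1 h => h.many_two h1.not_two_dvd_nat)
    (fun _ _ _ _ _ _ _ _ _ _ h1 _ h => h.hasBase_odd h1) n

theorem baseLT_not_three (n : ℕ) : BaseLT.{u} (Fin 2) (fun n => ¬ 3 ∣ n) n :=
  baseLT_all (C := Fin 3) (fun _ _ h h' h'' => h' (h''.trans h))
    (fun _ _ _ _ _ _ _ h1 _ h => h.aff_three h1)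
    (fun _ _ _ _ _ h1 h => h.many_prime Nat.prime_three h1)
    (fun _ _ _ _ _ _ _ _ _ h1 h => h.many_three h1)
    (fun _ _ _ _ _ _ _ _ _ _ h1 h2 h => h.hasBase_not_three h1 h2) n

variable {G V : Type*} [Group G] [Finite G] [Group.IsSolvable G] [AddCommGroup V] [Finite V]
  [DistribMulAction G V]

/-- Three vectors for a completely reducible module of a solvable group. -/
theorem CR.hasBase_three (h : CR G V) : HasBase (Fin 3) G V :=
  (baseLT_three _ (rng G V) V (Nat.lt_succ_self _) trivial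
    (h.of_same exists_rng' exists_rng)).of_le exists_rng

/-- Two vectors for a solvable group of odd order. -/
theorem CR.hasBase_odd (h : CR G V) (hG : Odd (Nat.card G)) : HasBase (Fin 2) G V :=
  (baseLT_odd _ (rng G V) V (Nat.lt_succ_self _) (hG.of_dvd_nat card_rng_dvd)
    (h.of_same exists_rng' exists_rng)).of_le exists_rng

/-- Two vectors for a solvable group of order prime to three. -/
theorem CR.hasBase_not_three (h : CR G V) (hG : ¬ 3 ∣ Nat.card G) : HasBase (Fin 2) G V :=
  (baseLT_not_three _ (rng G V) V (Nat.lt_succ_self _) (fun h' => hG (h'.trans card_rng_dvd))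
    (h.of_same exists_rng' exists_rng)).of_le exists_rng

/-- Subgroups of solvable groups have distinguishing colourings with five colours. -/
theorem dist_five (H : Subgroup G) : Dist (Fin 5) H :=
  dist_of_baseLT (P := fun _ => True) (fun _ _ _ _ => trivial)
    (fun _ _ _ _ _ _ _ _ _ h => h.aff_five) (fun _ _ _ _ _ _ h => h.many_five) (baseLT_three _)
    trivial H

/-- Subgroups of solvable groups of odd order have distinguishing colourings with two colours. -/
theorem dist_two (hG : Odd (Nat.card G)) (H : Subgroup G) : Dist (Fin 2) H :=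
  dist_of_baseLT (fun _ _ h h' => h'.of_dvd_nat h) (fun _ _ _ _ _ _ _ h1 h2 h => h.aff_two h1 h2)
    (fun _ _ _ _ _ h1 h => h.many_prime Nat.prime_two h1.not_two_dvd_nat) (baseLT_odd _) hG H

/-- Two vectors for an irreducible coprime module. -/
theorem Irr.hasBase_coprime (h : Irr G V) (hc : (Nat.card G).Coprime (Nat.card V)) :
    HasBase (Fin 2) G V := by
  rcases subsingleton_or_nontrivial V with h2 | h2
  · exact ⟨0, fun _ _ _ => Subsingleton.elim _ _⟩
  by_cases k2 : 2 ∣ Nat.card V
  · exact h.cr.hasBase_odd (Nat.coprime_two_right.1 (hc.coprime_dvd_right k2))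
  by_cases k3 : 3 ∣ Nat.card V
  · exact h.cr.hasBase_not_three
      (Nat.prime_three.coprime_iff_not_dvd.1 (hc.coprime_dvd_right k3).symm)
  have h6 : (Nat.card V).Coprime 6 := Nat.Coprime.mul_right
    (Nat.prime_two.coprime_iff_not_dvd.2 k2).symm (Nat.prime_three.coprime_iff_not_dvd.2 k3).symm
  obtain ⟨p, hp, hpV⟩ := Nat.exists_prime_and_dvd (Finite.one_lt_card (α := V)).ne'
  have h5 : 5 ≤ p := hp.five_le_of_ne_two_of_ne_three (by rintro rfl; exact k2 hpV)
    (by rintro rfl; exact k3 hpV)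
  have hV : ∀ v : V, p • v = 0 := by
    have : Fact p.Prime := ⟨hp⟩
    obtain ⟨x, hx⟩ := exists_prime_addOrderOf_dvd_card' p hpV
    have := (h (nsmulAddMonoidHom p : V →+ V).ker fun g u hu => by
      rw [AddMonoidHom.mem_ker, nsmulAddMonoidHom_apply] at hu ⊢
      rw [smul_comm, hu, smul_zero]).resolve_left fun h => by
        have h1 : x = 0 := h.le (by
          rw [AddMonoidHom.mem_ker, nsmulAddMonoidHom_apply, ← hx, addOrderOf_nsmul_eq_zero])
        rw [h1, addOrderOf_zero] at hx
        exact hp.one_lt.ne hx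
    exact fun v => this.ge (AddSubgroup.mem_top v)
  obtain ⟨U, h0, hU, hP⟩ := exists_prim_blk (G := G) (V := V)
  let _ := resAct (mInv_stabilizer (G := G) U)
  have : Nontrivial U := (AddSubgroup.nontrivial_iff_ne_bot U).2 h0
  exact HasBase.of_blk h h0 hU (dist_five _) (((hP.of_same exists_rng).hasBase_char
    (h6.coprime_dvd_left (AddSubgroup.card_addSubgroup_dvd_card U))).of_le exists_rng |>.many_char
      hp h5 (fun u => Subtype.ext (hV u)) fun h => hp.one_lt.ne' (Nat.eq_one_of_dvd_coprimes hc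
        (h.trans (card_subgroup_dvd_card _)) hpV))

end CfsgLib.Base
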