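import Mathlib
import Cfsg.Agent.Lib.Base.Main
import Cfsg.Agent.Lib.Solv.AutQuot
import Cfsg.Agent.Lib.Coprime.Hall
import Cfsg.Agent.Lib.Core.Cores

/-!
Coprime actions of solvable groups have bases of size two.
-/

set_option autoImplicit false

namespace CfsgLib.Base

open Subgroup CfsgLib.Coprime CfsgLib.Solv

universe u v

open scoped IsMulCommutative in
theorem base_two_of_solvable (n : ℕ) : ∀ (K : Type u) (A : Type v) [Group K] [Finite K]
    [Group.IsSolvable K] [Group A] [Finite A] [Group.IsSolvable A] (φ : A →* MulAut K),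
    Nat.card K = n → (Nat.card A).Coprime (Nat.card K) →
    ∃ x y : K, ∀ a : A, φ a x = x → φ a y = y → ∀ k, φ a k = k := by
  induction n using Nat.strong_induction_on with
  | _ n ih =>
    intro K A _ _ _ _ _ _ φ hn hc
    subst hn
    by_cases h : ∃ N : Subgroup K, N.Normal ∧ AutInv φ N ∧ N ≠ ⊥ ∧ N ≠ ⊤
    · obtain ⟨N, _, hN, h0, h1⟩ := h
      have hcN := coprime_subgroup hc N
      obtain ⟨x₀, y₀, hq⟩ := ih _ (by
        rw [← N.index_mul_card, ← index_eq_card]
        exact lt_mul_of_one_lt_right (Nat.pos_of_ne_zero index_ne_zero_of_finite)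
          (N.one_lt_card_iff_ne_bot.2 h0)) (K ⧸ N) A (quotAut φ N hN) rfl (coprime_quot hc N)
      let B := (quotAut φ N hN).ker
      obtain ⟨x₁, y₁, hs⟩ := ih _
        (Finite.card_subtype_lt (not_forall.1 fun h => h1 ((eq_top_iff' N).2 h)).choose_spec) N B
        (subAut (φ.comp B.subtype) N fun a => hN a) rfl
        (hcN.coprime_dvd_left (card_subgroup_dvd_card B))
      have lift : ∀ z : K ⧸ N, ∃ g : K, (g : K ⧸ N) = z ∧
          ∀ a : A, quotAut φ N hN a z = z → φ a g = g := fun z => by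
        let S := (MulAction.stabilizer (MulAut (K ⧸ N)) z).comap (quotAut φ N hN)
        obtain ⟨g, hg, e⟩ := exists_fixed_lift (φ := φ.comp S.subtype) (N := N) (fun a => hN a)
          (hcN.coprime_dvd_left (card_subgroup_dvd_card S)) (Or.inl inferInstance) (y := z)
          (fun a => by
            obtain ⟨g, rfl⟩ := QuotientGroup.mk_surjective z
            exact a.2)
        exact ⟨g, e, fun a ha => hg ⟨a, ha⟩⟩
      obtain ⟨x, rfl, hx⟩ := lift x₀
      obtain ⟨y, rfl, hy⟩ := lift y₀
      refine ⟨x * x₁, y * y₁, fun a h2 h3 => ?_⟩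
      have key : ∀ (g : K) (m : N), φ a (g * m) = g * m → quotAut φ N hN a g = g := fun g m h => by
        rw [← QuotientGroup.mk_mul_of_mem g m.2, quotAut_mk, h]
      have h4 : a ∈ B := MulEquiv.ext (hq a (key x x₁ h2) (key y y₁ h3))
      have k2 := hx a (key x x₁ h2)
      have k3 := hy a (key y y₁ h3)
      rw [map_mul, k2, mul_right_inj] at h2
      rw [map_mul, k3, mul_right_inj] at h3
      have h5 := hs ⟨a, h4⟩ (Subtype.ext h2) (Subtype.ext h3)
      have h6 := le_autFix_of_autComm_le (φ := φ.comp (zpowers a).subtype) (K := ⊤) (N := N) le_top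
        (autComm_le_iff.2 fun b g _ => QuotientGroup.eq.1 (by
          have : (b : A) ∈ B := (zpowers_le.2 h4) b.2
          exact (MulEquiv.congr_fun this (g : K ⧸ N)).symm))
        (hcN.coprime_dvd_left (card_subgroup_dvd_card _)) fun m hm b => by
          have : zpowers a ≤ (MulAction.stabilizer (MulAut K) m).comap φ :=
            zpowers_le.2 (congrArg Subtype.val (h5 ⟨m, hm⟩))
          exact this b.2
      exact fun k => h6 (mem_top k) ⟨a, mem_zpowers a⟩
    · push Not at h
      rcases subsingleton_or_nontrivial K with h1 | h1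
      · exact ⟨1, 1, fun _ _ _ _ => Subsingleton.elim _ _⟩
      have h2 : commutator K = ⊥ := by
        by_contra h2
        exact (Group.IsSolvable.commutator_lt_top_of_nontrivial K).ne
          (h _ inferInstance (autInv_of_characteristic _) h2)
      have : IsMulCommutative K := ⟨⟨fun a b => commutatorElement_eq_one_iff_mul_comm.1
        (h2.le (commutator_mem_commutator (mem_top a) (mem_top b)))⟩⟩
      let _ : DistribMulAction A (Additive K) :=
        { smul := fun a k => Additive.ofMul (φ a k.toMul)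
          one_smul := fun k => by change Additive.ofMul (φ 1 _) = _; simp
          mul_smul := fun a b k => by change Additive.ofMul (φ (a * b) _) = _; rw [map_mul]; rfl
          smul_zero := fun a => congrArg Additive.ofMul (map_one (φ a))
          smul_add := fun a k l => congrArg Additive.ofMul (map_mul (φ a) _ _) }
      obtain ⟨v, hv⟩ := Irr.hasBase_coprime (G := A) (V := Additive K) (fun U hU => by
        refine or_iff_not_imp_left.2 fun h3 => AddSubgroup.toSubgroup'.injective ?_
        exact (h U.toSubgroup' inferInstance (fun a k hk => hU a _ hk) fun h4 => h3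
          (AddSubgroup.toSubgroup'.injective (h4.trans (BotHomClass.map_bot _).symm))).trans (map_top _).symm)
        hc
      exact ⟨(v 0).toMul, (v 1).toMul, fun a h0 h1 k => hv a (fun i => by
        fin_cases i
        exacts [h0, h1]) (Additive.ofMul k)⟩

open Classical in
theorem card_le_fiber {L X : Type*} [PartialOrder L] [Fintype L] [Finite X] (s : X → L) (B : L) :
    Nat.card {x // B ≤ s x} =
      Nat.card {x // s x = B} + ∑ C ∈ Finset.univ.filter (B < ·), Nat.card {x // s x = C} := by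
  have := Fintype.ofFinite X
  simp only [Nat.card_eq_fintype_card, Fintype.card_subtype]
  rw [Finset.card_eq_sum_card_fiberwise (f := s) (t := insert B (Finset.univ.filter (B < ·)))
    (fun x hx => by simpa [eq_comm, ← le_iff_eq_or_lt] using hx),
    Finset.sum_insert (by simp)]
  congr 1
  · congr 1
    ext x
    simpa using fun h : s x = B => h.ge
  · refine Finset.sum_congr rfl fun C hC => congrArg _ ?_
    ext x
    simpa using fun h : s x = C => h ▸ (Finset.mem_filter.1 hC).2.le

theorem card_fiber_eq {L X Y : Type*} [PartialOrder L] [Finite L] [Finite X] [Finite Y] (s : X → L)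
    (t : Y → L) (h : ∀ B, Nat.card {x // B ≤ s x} = Nat.card {y // B ≤ t y}) (B : L) :
    Nat.card {x // s x = B} = Nat.card {y // t y = B} := by
  classical
  have := Fintype.ofFinite L
  induction B using WellFoundedGT.induction with
  | ind B ih =>
    have h1 := h B
    rw [card_le_fiber s, card_le_fiber t,
      Finset.sum_congr rfl fun C hC => ih C (Finset.mem_filter.1 hC).2] at h1
    exact Nat.add_right_cancel h1

theorem card_eq_pow_factorization {G : Type*} [Group G] [Finite G] {q : ℕ} (hq : q.Prime)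
    {R C : Subgroup G} (h : R ≤ C) (hR : IsPGroup q R) (hi : ¬ q ∣ R.relIndex C) :
    Nat.card R = q ^ (Nat.card C).factorization q := by
  have : Fact q.Prime := ⟨hq⟩
  obtain ⟨k, hk⟩ := hR.exists_card_eq
  rw [← Core.card_mul_relIndex_of_le h, hk, Nat.factorization_mul (pow_ne_zero _ hq.ne_zero)
    (fun h : R.relIndex C = 0 => hi (h ▸ dvd_zero q)), Finsupp.add_apply, hq.factorization_pow,
    Nat.factorization_eq_zero_of_not_dvd hi, Finsupp.single_eq_same, add_zero]

/-- A coprime action of a solvable group has a base of size two. -/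
theorem base_two_of_coprime {K A : Type*} [Group K] [Finite K] [Group A] [Finite A]
    [Group.IsSolvable A] (φ : A →* MulAut K) (hc : (Nat.card A).Coprime (Nat.card K)) :
    ∃ x y : K, ∀ a : A, φ a x = x → φ a y = y → ∀ k, φ a k = k := by
  classical
  have h1 : ∀ q : (Nat.card K).primeFactors, ∃ P : Subgroup K, IsPGroup q P ∧
      ¬ (q : ℕ) ∣ P.relIndex ⊤ ∧ AutInv φ P := fun q => by
    have : Fact (q : ℕ).Prime := ⟨Nat.prime_of_mem_primeFactors q.2⟩
    obtain ⟨P, -, -, h⟩ := aut_exists_invariant_sylow' (φ := φ) q autInv_top (by rwa [card_top])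
      (Or.inl inferInstance) bot_le IsPGroup.of_bot autInv_bot
    exact ⟨P, h⟩
  choose P hP hi hA using h1
  have h2 : ∀ q : (Nat.card K).primeFactors, ∃ x y : P q, ∀ a : A, φ a x = x → φ a y = y →
      ∀ k ∈ P q, φ a k = k := fun q => by
    have : Fact (q : ℕ).Prime := ⟨Nat.prime_of_mem_primeFactors q.2⟩
    have := isSolvable_of_isPGroup (hP q)
    obtain ⟨x, y, h⟩ := base_two_of_solvable _ (P q) A (subAut φ _ (hA q)) rfl
      (coprime_subgroup hc _)
    exact ⟨x, y, fun a h1 h2 k hk => congrArg Subtype.val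
      (h a (Subtype.ext h1) (Subtype.ext h2) ⟨k, hk⟩)⟩
  choose x y hxy using h2
  let st : K → Subgroup A := fun k => (MulAction.stabilizer (MulAut K) k).comap φ
  let s : (∀ q, P q) → Subgroup A := fun z => ⨅ q, st (z q)
  have h3 : ∀ B : Subgroup A, Nat.card {z // B ≤ s z} = Nat.card {k // B ≤ st k} := fun B => by
    let ψ := φ.comp B.subtype
    have e1 : Nat.card {k // B ≤ st k} = Nat.card (autFix ψ) := Nat.card_congr
      (Equiv.subtypeEquivRight fun k => ⟨fun h a => h a.2, fun h a ha => h ⟨a, ha⟩⟩)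
    have e2 : Nat.card {z // B ≤ s z} = ∏ q, Nat.card (P q ⊓ autFix ψ : Subgroup K) := by
      rw [← Nat.card_pi]
      exact Nat.card_congr
        { toFun := fun z q => ⟨z.1 q, (z.1 q).2, fun a => (le_iInf_iff.1 z.2 q) a.2⟩
          invFun := fun z => ⟨fun q => ⟨z q, (z q).2.1⟩,
            le_iInf fun q a ha => (z q).2.2 ⟨a, ha⟩⟩
          left_inv := fun _ => rfl
          right_inv := fun _ => rfl }
    have e3 : ∀ q : (Nat.card K).primeFactors, Nat.card (P q ⊓ autFix ψ : Subgroup K) =
        q ^ (Nat.card (autFix ψ)).factorization q := fun q => by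
      have hq := Nat.prime_of_mem_primeFactors q.2
      have : Fact (q : ℕ).Prime := ⟨hq⟩
      have := finite_sd (φ := ψ)
      have hAq : AutInv ψ (P q) := fun a => hA q a
      have h4 := not_dvd_relIndex_inf_centralizer (p := q) (autInv_top (φ := ψ).sdR_le ⊤)
        (coprime_sd (by
          rw [card_top]; exact hc.coprime_dvd_left (card_subgroup_dvd_card B)))
        (solvable_sd (Or.inl inferInstance)) (sdL_le_sdL.2 le_top) ((hP q).of_equiv (sdLEquiv _))
        (by rw [relIndex_sdL]; exact hi q) (hAq.sdR_le ⊤)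
      rw [sdL_inf_centralizer, sdL_inf_centralizer, relIndex_sdL, top_inf_eq] at h4
      exact card_eq_pow_factorization hq inf_le_right ((hP q).to_le inf_le_left) h4
    rw [e1, e2, Finset.prod_congr rfl fun q _ => e3 q,
      Finset.prod_coe_sort _ fun q => q ^ (Nat.card (autFix ψ)).factorization q]
    conv_rhs => rw [← Nat.prod_factorization_pow_eq_self (Nat.card_pos (α := autFix ψ)).ne']
    exact (Finsupp.prod_of_support_subset _ (Nat.primeFactors_mono (card_subgroup_dvd_card _)
      Nat.card_pos.ne') _ fun _ _ => pow_zero _).symm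
  have h4 : ∀ z, ∃ k, st k = s z := fun z => by
    have := card_fiber_eq s st h3 (s z)
    have h5 : Nonempty {w // s w = s z} := ⟨⟨z, rfl⟩⟩
    obtain ⟨k, hk⟩ := (Nat.card_pos_iff.1 (this ▸ Nat.card_pos : 0 < Nat.card {k // st k = s z})).1
    exact ⟨k, hk⟩
  obtain ⟨x', hx⟩ := h4 x
  obtain ⟨y', hy⟩ := h4 y
  refine ⟨x', y', fun a h5 h6 k => ?_⟩
  have h7 : (φ a).toMonoidHom.eqLocus (MonoidHom.id K) = ⊤ := eq_of_forall_sylow_le le_top
    fun q hq hd => by
      have hm : q ∈ (Nat.card K).primeFactors :=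
        Nat.mem_primeFactors.2 ⟨hq, card_top (G := K) ▸ hd, Nat.card_pos.ne'⟩
      exact ⟨P ⟨q, hm⟩, hxy ⟨q, hm⟩ a (mem_iInf.1 (hx.le h5) _) (mem_iInf.1 (hy.le h6) _),
        hi ⟨q, hm⟩⟩
  exact h7.ge (mem_top k)

open scoped Pointwise

theorem relIndex_dvd_of_le {G : Type*} [Group G] (N : Subgroup G) [N.Normal] {X Y : Subgroup G}
    (h : X ≤ Y) : N.relIndex X ∣ N.relIndex Y := by
  rw [← relIndex_subgroupOf h]
  exact relIndex_dvd_index_of_normal _ _

theorem relIndex_map_dvd {G Q : Type*} [Group G] [Group Q] (f : G →* Q) (A B : Subgroup G) :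
    (A.map f).relIndex (B.map f) ∣ A.relIndex B :=
  (index_dvd_of_le (H := (A.subgroupOf B).map (f.subgroupMap B)) (by
    rintro _ ⟨x, hx, rfl⟩
    exact mem_map_of_mem f hx)).trans (index_map_dvd _ (f.subgroupMap_surjective B))

/-- A chain of normal subgroups whose factors are `p`-groups for `p ∈ π` or `π'`-groups. -/
def PiSolv (π : Set ℕ) (G : Type*) [Group G] : Prop :=
  ∃ (n : ℕ) (N : Fin (n + 1) → Subgroup G), N 0 = ⊥ ∧ N (Fin.last n) = ⊤ ∧ Monotone N ∧
    (∀ i, (N i).Normal) ∧ ∀ i : Fin n,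
      (∃ p ∈ π, p.Prime ∧ ∃ k : ℕ, (N i.castSucc).relIndex (N i.succ) = p ^ k) ∨
        (∀ q : ℕ, q.Prime → q ∣ (N i.castSucc).relIndex (N i.succ) → q ∉ π)

variable {π : Set ℕ} {G : Type*} [Group G]

theorem PiSolv.of_surjective {Q : Type*} [Group Q] (h : PiSolv π G) {f : G →* Q}
    (hf : Function.Surjective f) : PiSolv π Q := by
  obtain ⟨n, N, h0, h1, h2, h3, h4⟩ := h
  refine ⟨n, fun i => (N i).map f, by simp only [h0, Subgroup.map_bot],
    by simp only [h1, map_top_of_surjective f hf], fun i j h => map_mono (h2 h),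
    fun i => (h3 i).map f hf, fun i => (h4 i).imp ?_ fun h q hq hd =>
      h q hq (hd.trans (relIndex_map_dvd f _ _))⟩
  rintro ⟨p, hp, hp', k, hk⟩
  obtain ⟨j, -, hj⟩ := (Nat.dvd_prime_pow hp').1 (hk ▸ relIndex_map_dvd f _ _)
  exact ⟨p, hp, hp', j, hj⟩

theorem PiSolv.induction (h : PiSolv π G) (X : Subgroup G) {P : Subgroup G → Prop} (h0 : P ⊥)
    (hP : ∀ N M : Subgroup G, N.Normal → M.Normal → N ≤ M → P (X ⊓ N) →
      ((∃ p ∈ π, p.Prime ∧ ∃ k : ℕ, (X ⊓ N).relIndex (X ⊓ M) = p ^ k) ∨
        IsPiNum πᶜ ((X ⊓ N).relIndex (X ⊓ M))) → P (X ⊓ M)) : P X := by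
  obtain ⟨n, N, h1, h2, h3, h4, h5⟩ := h
  have key : ∀ i, P (X ⊓ N i) := fun i => by
    induction i using Fin.induction with
    | zero => rwa [h1, inf_bot_eq]
    | succ i ih =>
      have hle : N i.castSucc ≤ N i.succ := h3 i.castSucc_le_succ
      have hd : (X ⊓ N i.castSucc).relIndex (X ⊓ N i.succ) ∣
          (N i.castSucc).relIndex (N i.succ) := by
        rw [← inf_relIndex_right, inf_right_comm, ← inf_assoc, inf_idem, inf_comm,
          inf_relIndex_right]
        exact relIndex_dvd_of_le _ inf_le_right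
      refine hP _ _ (h4 _) (h4 _) hle ih ((h5 i).imp ?_ fun h q hq h' => h q hq (h'.trans hd))
      rintro ⟨p, hp, hp', k, hk⟩
      obtain ⟨j, -, hj⟩ := (Nat.dvd_prime_pow hp').1 (hk ▸ hd)
      exact ⟨p, hp, hp', j, hj⟩
  simpa [h2] using key (Fin.last n)

theorem PiSolv.isSolvable [Finite G] (h : PiSolv π G) {H : Subgroup G}
    (hH : IsPiNum π (Nat.card H)) : Group.IsSolvable H :=
  h.induction H (P := fun X => Group.IsSolvable X) inferInstance fun N M _ _ hle ih h => by
    have h1 : H ⊓ N ≤ H ⊓ M := inf_le_inf_left H hle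
    rcases h with ⟨p, -, hp, k, hk⟩ | h
    · have : Fact p.Prime := ⟨hp⟩
      have : ((H ⊓ N).subgroupOf (H ⊓ M)).Normal := by
        rw [inf_comm H N, ← inf_subgroupOf_right, inf_assoc, ← inf_assoc H, inf_idem,
          inf_subgroupOf_right]
        infer_instance
      exact (Group.isSolvable_iff_subgroup_quotient ((H ⊓ N).subgroupOf (H ⊓ M))).2
        ⟨Core.isSolvable_of_mulEquiv (subgroupOfEquivOfLe h1).symm,
          isSolvable_of_isPGroup (IsPGroup.of_card (p := p) hk)⟩
    · have h2 := (hH.of_dvd ((relIndex_dvd_card (H ⊓ N) (H ⊓ M)).trans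
        (card_dvd_of_le inf_le_left))).coprime h
      rw [Nat.coprime_self, relIndex_eq_one] at h2
      exact Core.isSolvable_of_le h2

theorem PiSolv.centralizer_le [Finite G] (h : PiSolv π G) (h0 : Cfsg.piCore π G = ⊥) :
    centralizer (Cfsg.piCore πᶜ G : Set G) ≤ Cfsg.piCore πᶜ G :=
  h.induction _ (P := fun X => X ≤ Cfsg.piCore πᶜ G) bot_le fun N M _ _ hle ih h => by
    set C := centralizer (Cfsg.piCore πᶜ G : Set G)
    have h1 : C ⊓ N ≤ C ⊓ M := inf_le_inf_left C hle
    have h2 : IsPiNum πᶜ (Nat.card (C ⊓ N : Subgroup G)) :=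
      IsPiNum.of_dvd ((Core.isOrdClass_pi πᶜ).card_ordCore G) (card_dvd_of_le ih)
    rcases h with ⟨p, hπ, hp, k, hk⟩ | h
    · have : Fact p.Prime := ⟨hp⟩
      have h3 : Group.IsNilpotent (C ⊓ M : Subgroup G) := by
        have := (IsPGroup.of_card (p := p) (G := (C ⊓ M : Subgroup G) ⧸
          (C ⊓ N).subgroupOf (C ⊓ M)) hk).isNilpotent
        refine Subgroup.isNilpotent_of_ker_le_center (QuotientGroup.mk' ((C ⊓ N).subgroupOf (C ⊓ M))) ?_
        rw [QuotientGroup.ker_mk']
        exact fun x hx => mem_center_iff.2 fun y => Subtype.ext (y.2.1 _ (ih hx)).symm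
      rcases k with _ | k
      · exact (relIndex_eq_one.1 hk).trans ih
      obtain ⟨x, hx, ho⟩ := Core.exists_mem_orderOf_eq_of_dvd_card hp (H := C ⊓ M)
        ((hk ▸ dvd_pow_self p k.succ_ne_zero).trans (relIndex_dvd_card _ _))
      have h4 : Cfsg.pCore p G ≤ Cfsg.piCore π G := le_sSup ⟨inferInstance,
        isPiNum_card_of_isPGroup hp (Core.isPGroup_pCore p G) hπ⟩
      have h5 := (Core.le_pCore_of_le_fittingSubgroup ((zpowers_le.2 hx).trans
        (Core.le_fittingSubgroup h3)) (IsPGroup.of_card (p := p) (n := 1) (by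
          rw [Nat.card_zpowers, ho, pow_one]))).trans (h4.trans h0.le)
      rw [zpowers_le, mem_bot] at h5
      rw [h5, orderOf_one] at ho
      exact absurd ho hp.one_lt.ne
    · exact le_sSup ⟨inferInstance, Core.card_mul_relIndex_of_le h1 ▸ h2.mul h⟩

theorem PiSolv.exists_inf_eq_bot [Finite G] (h : PiSolv π G) (h0 : Cfsg.piCore π G = ⊥)
    {H : Subgroup G} (hH : IsPiNum π (Nat.card H)) :
    ∃ x y : G, H ⊓ MulAut.conj x • H ⊓ MulAut.conj y • H = ⊥ := by
  have := h.isSolvable hH
  set K := Cfsg.piCore πᶜ G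
  have hc : (Nat.card H).Coprime (Nat.card K) :=
    hH.coprime ((Core.isOrdClass_pi πᶜ).card_ordCore G)
  obtain ⟨x, y, hxy⟩ := base_two_of_coprime ((MulAut.conjNormal (H := K)).comp H.subtype) hc
  have key : ∀ (z : K), ∀ a ∈ H, a ∈ MulAut.conj (z : G) • H → a * z * a⁻¹ = z :=
    fun z a ha h => by
      rw [mem_pointwise_smul_iff_inv_smul_mem, ← map_inv, MulAut.smul_def, MulAut.conj_apply,
        inv_inv] at h
      have := eq_one_of_mem_of_coprime hc (H.mul_mem h (H.inv_mem ha)) (by
        rw [mul_assoc, mul_assoc, ← mul_assoc a]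
        exact K.mul_mem (K.inv_mem z.2) (Normal.conj_mem inferInstance _ z.2 a))
      rw [mul_assoc, mul_assoc, inv_mul_eq_one, ← mul_assoc] at this
      exact this.symm
  refine ⟨x, y, eq_bot_iff.2 fun a ha => eq_one_of_mem_of_coprime hc ha.1.1
    (h.centralizer_le h0 fun k hk => ?_)⟩
  have := congrArg Subtype.val (hxy ⟨a, ha.1.1⟩ (Subtype.ext (key x a ha.1.1 ha.1.2))
    (Subtype.ext (key y a ha.1.1 ha.2)) ⟨k, hk⟩)
  exact (mul_inv_eq_iff_eq_mul.1 this).symm

theorem PiSolv.exists_inf_eq_piCore [Finite G] (h : PiSolv π G) {H : Subgroup G}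
    (hH : Cfsg.IsPiHall π H) :
    ∃ x y : G, H ⊓ MulAut.conj x • H ⊓ MulAut.conj y • H = Cfsg.piCore π G := by
  have := Core.ordCore_normal (fun n => ∀ q : ℕ, q.Prime → q ∣ n → q ∈ π) G
  let f := QuotientGroup.mk' (Cfsg.piCore π G)
  have hf : Function.Surjective f := QuotientGroup.mk'_surjective _
  have hO : ∀ {H : Subgroup G}, Cfsg.IsPiHall π H → Cfsg.piCore π G ≤ H := fun hH =>
    le_of_isPiHall_of_normal hH ((Core.isOrdClass_pi π).card_ordCore G)
  obtain ⟨x, y, hxy⟩ := (h.of_surjective hf).exists_inf_eq_bot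
    ((Core.isOrdClass_pi π).ordCore_quotient G) (isPiHall_map_of_surjective hf hH).1
  obtain ⟨x, rfl⟩ := hf x
  obtain ⟨y, rfl⟩ := hf y
  refine ⟨x, y, le_antisymm (fun a ha => ?_) (le_inf (le_inf (hO hH)
    (hO (isPiHall_conj_smul hH x))) (hO (isPiHall_conj_smul hH y)))⟩
  have key : ∀ z : G, a ∈ MulAut.conj z • H → f a ∈ MulAut.conj (f z) • H.map f := fun z h => by
    rw [mem_pointwise_smul_iff_inv_smul_mem, ← map_inv, MulAut.smul_def, MulAut.conj_apply] at h ⊢
    simpa using mem_map_of_mem f h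
  exact (QuotientGroup.eq_one_iff a).1 (hxy.le ⟨⟨mem_map_of_mem f ha.1.1, key x ha.1.2⟩,
    key y ha.2⟩)

end CfsgLib.Base
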